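/-
Tables for the generalised quadrangle on the 45 isotropic points of the four-dimensional Hermitian
space over the field with four elements, and its dual, the elliptic quadric in dimension six.
-/
import Mathlib

set_option autoImplicit false

namespace H5.Gq

/-- Packed coordinates of the points. -/
def ptP : ℕ := 2327811215453144200610089642094807807937990487429655585878615522218241593471389290903170438273973709263900752

/-- Packed adjacency of the points. -/
def adjP : ℕ := 132852988993314290931752753795790485135427224617466607657941918208757716834308671513944576038965023442567567562631262147600493454970590700433872004411518198831066014209884331409314193938525414433834440418749011672573057007393547002272721321369980077836768600865048641517458622960505079620618054462775558430022347901324094710608269885631826562690840330761088212773684508498464779367704827697974341240615133574934934420889473639047170696490650010719501201216524342515066841033009953221095060794141082236880128804095959657665765181696133523421176772862429372934164423653017158232332309517526290316514642996854784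

/-- Packed incidence of lines and points. -/
def incP : ℕ := 35268019622230969576041331046932368125095393518588060009468178789993094000150421627464354545530457435722366273121196375392944417498656588531098924041602958594150949906580455435449887511237443773875172848494267426040320747133197056257020038541288930029730070401640178011003460313212731772319750713523307949599036834238961639632188911772371552041003900130372548132865

/-- Packed singular vectors of the lines. -/
def spP : ℕ := 3971792663258511945954216716465460740523552682113

/-- Coordinates of a point. -/
def pt (i : Fin 45) (k : Fin 4) : Fin 4 := ⟨(ptP >>> (8 * i.val + 2 * k.val)) % 4, Nat.mod_lt _ (by norm_num)⟩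

/-- Adjacency. -/
def adj (i j : Fin 45) : Bool := Nat.testBit adjP (45 * i.val + j.val)

/-- Incidence. -/
def inc (v : Fin 27) (i : Fin 45) : Bool := Nat.testBit incP (45 * v.val + i.val)

/-- The first point of a line. -/
def ptA (v : Fin 27) : Fin 45 := ![0, 0, 0, 1, 1, 1, 2, 2, 2, 3, 3, 3, 4, 4, 4, 5, 5, 5, 6, 6, 6, 7, 7, 7, 8, 8, 8] v

/-- The second point of a line. -/
def ptB (v : Fin 27) : Fin 45 := ![15, 25, 35, 15, 25, 35, 15, 25, 35, 12, 13, 14, 12, 13, 14, 12, 13, 14, 9, 10, 11, 9, 10, 11, 9, 10, 11] v

/-- The frame. -/
def fr : Fin 6 → Fin 27 := ![0, 1, 3, 4, 9, 10]

end H5.Gq
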