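/-
The automorphism group of the point graph of the generalised quadrangle on 45 points embeds in the
isometry group of the elliptic quadratic form in dimension six over the field with two elements.
-/
import Cfsg.Agent.H5.Gq.Data
import Cfsg.Prelude.Def_Classical

set_option autoImplicit false
set_option maxRecDepth 100000

namespace H5.Gq

open Matrix

/-- The coordinates of the six-dimensional space. -/
abbrev Ix := (Fin 2 ⊕ Fin 2) ⊕ Fin 2

/-- The quadratic form. -/
abbrev qf : (Ix → ZMod 2) → ZMod 2 := Cfsg.quadFormMinus 2 (ZMod 2) 1 1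

/-- Number of a coordinate. -/
def num : Ix → ℕ
  | .inl (.inl i) => i.val
  | .inl (.inr i) => 2 + i.val
  | .inr i => 4 + i.val

/-- The singular vector of a line. -/
def sp (v : Fin 27) : Ix → ZMod 2 := fun i => (((spP >>> (6 * v.val + num i)) % 2 : ℕ) : ZMod 2)

/-- The polar form. -/
def bil (x y : Ix → ZMod 2) : ZMod 2 := qf (x + y) + qf x + qf y

/-- Two lines meet or coincide. -/
def coll (v w : Fin 27) : Bool := decide (bil (sp v) (sp w) = 0)

theorem inc_ptA : ∀ v, inc v (ptA v) = true ∧ inc v (ptB v) = true ∧ adj (ptA v) (ptB v) = true := by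
  decide +kernel

theorem inc_adj : ∀ v i j, inc v i = true → inc v j = true → i ≠ j → adj i j = true := by
  decide +kernel

theorem inc_exists : ∀ i j, adj i j = true → ∃ v, inc v i = true ∧ inc v j = true := by
  decide +kernel

theorem inc_unique : ∀ v w i, inc v i = true → inc w i = true → v ≠ w →
    ∀ j, inc v j = true → inc w j = true → i = j := by
  decide +kernel

theorem triangle : ∀ i j, adj i j = true → ∀ k, adj i k = true → adj j k = true →
    ∀ v, inc v i = true → inc v j = true → inc v k = true := by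
  decide +kernel

theorem two_lines : ∀ i, ∃ v w, v ≠ w ∧ inc v i = true ∧ inc w i = true := by
  decide +kernel

theorem coll_iff : ∀ v w, coll v w = true ↔ ∃ i, inc v i = true ∧ inc w i = true := by
  decide +kernel

theorem sp_sing : ∀ v, qf (sp v) = 0 ∧ sp v ≠ 0 := by decide +kernel

theorem sp_surj : ∀ x : Ix → ZMod 2, x ≠ 0 → qf x = 0 → ∃ v, sp v = x := by decide +kernel

theorem sp_inj : ∀ v w, sp v = sp w → v = w := by decide +kernel

theorem pattern : ∀ v w, (∀ k, coll v (fr k) = coll w (fr k)) → v = w := by decide +kernel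

theorem bil_nondeg : ∀ x : Ix → ZMod 2, (∀ y, bil x y = 0) → x = 0 := by decide +kernel

theorem adj_irrefl : ∀ i, adj i i = false := by decide +kernel

theorem nbhd_inj : ∀ i j, (∀ k, (decide (k = i) || adj i k) = (decide (k = j) || adj j k)) → i = j := by
  decide +kernel

/-- The matrix with columns the frame vectors. -/
def frM : Matrix Ix (Fin 6) (ZMod 2) := Matrix.of fun i k => sp (fr k) i

theorem frame_span : ∀ x : Ix → ZMod 2, ∃ y, frM *ᵥ y = x := by decide +kernel

theorem meet_eq {i j : Fin 45} (h : adj i j = true) {v w : Fin 27} (hv : inc v i = true)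
    (hv' : inc v j = true) (hw : inc w i = true) (hw' : inc w j = true) : v = w := by
  by_contra hne
  have := inc_unique v w i hv hw hne j hv' hw'
  rw [this, adj_irrefl] at h
  exact Bool.false_ne_true h

/-- The permutations preserving adjacency. -/
def autAdj : Subgroup (Equiv.Perm (Fin 45)) where
  carrier := {s | ∀ i j, adj (s i) (s j) = adj i j}
  one_mem' := fun _ _ => rfl
  mul_mem' {a b} ha hb := fun i j => (ha _ _).trans (hb i j)
  inv_mem' {a} ha := fun i j => by
    conv_rhs => rw [← a.apply_symm_apply i, ← a.apply_symm_apply j, ha]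
    rfl

theorem exists_image (s : autAdj) (v : Fin 27) :
    ∃ w, ∀ i, inc v i = true → inc w (s.1 i) = true := by
  obtain ⟨hA, hB, hAB⟩ := inc_ptA v
  have hAB' : adj (s.1 (ptA v)) (s.1 (ptB v)) = true := (s.2 _ _).trans hAB
  obtain ⟨w, hwA, hwB⟩ := inc_exists _ _ hAB'
  refine ⟨w, fun i hi => ?_⟩
  rcases eq_or_ne i (ptA v) with rfl | hiA
  · exact hwA
  rcases eq_or_ne i (ptB v) with rfl | hiB
  · exact hwB
  exact triangle _ _ hAB' _ ((s.2 _ _).trans (inc_adj v _ _ hA hi (Ne.symm hiA)))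
    ((s.2 _ _).trans (inc_adj v _ _ hB hi (Ne.symm hiB))) w hwA hwB

/-- The action on lines. -/
noncomputable def lmap (s : autAdj) (v : Fin 27) : Fin 27 := (exists_image s v).choose

theorem inc_lmap (s : autAdj) {v : Fin 27} {i : Fin 45} (h : inc v i = true) :
    inc (lmap s v) (s.1 i) = true :=
  (exists_image s v).choose_spec i h

theorem lmap_eq (s : autAdj) {v w : Fin 27} (h : ∀ i, inc v i = true → inc w (s.1 i) = true) :
    lmap s v = w := by
  obtain ⟨hA, hB, hAB⟩ := inc_ptA v
  exact meet_eq ((s.2 _ _).trans hAB) (inc_lmap s hA) (inc_lmap s hB) (h _ hA) (h _ hB)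

theorem lmap_mul (s t : autAdj) (v : Fin 27) : lmap (s * t) v = lmap s (lmap t v) :=
  lmap_eq _ fun _ hi => inc_lmap s (inc_lmap t hi)

theorem lmap_one (v : Fin 27) : lmap 1 v = v := lmap_eq _ fun _ hi => hi

theorem lmap_coll (s : autAdj) (v w : Fin 27) : coll (lmap s v) (lmap s w) = coll v w := by
  rw [Bool.eq_iff_iff, coll_iff, coll_iff]
  constructor
  · rintro ⟨i, hv, hw⟩
    refine ⟨(s⁻¹ : autAdj).1 i, ?_, ?_⟩
    · have := inc_lmap s⁻¹ hv
      rwa [← lmap_mul, inv_mul_cancel, lmap_one] at this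
    · have := inc_lmap s⁻¹ hw
      rwa [← lmap_mul, inv_mul_cancel, lmap_one] at this
  · rintro ⟨i, hv, hw⟩
    exact ⟨s.1 i, inc_lmap s hv, inc_lmap s hw⟩

theorem qf_comb (c : Fin 6 → Ix → ZMod 2) (hc : ∀ k, qf (c k) = 0) (y : Fin 6 → ZMod 2) :
    qf (∑ k, y k • c k) =
      y 0 * y 1 * bil (c 0) (c 1) + y 0 * y 2 * bil (c 0) (c 2) + y 0 * y 3 * bil (c 0) (c 3) +
      y 0 * y 4 * bil (c 0) (c 4) + y 0 * y 5 * bil (c 0) (c 5) + y 1 * y 2 * bil (c 1) (c 2) +
      y 1 * y 3 * bil (c 1) (c 3) + y 1 * y 4 * bil (c 1) (c 4) + y 1 * y 5 * bil (c 1) (c 5) +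
      y 2 * y 3 * bil (c 2) (c 3) + y 2 * y 4 * bil (c 2) (c 4) + y 2 * y 5 * bil (c 2) (c 5) +
      y 3 * y 4 * bil (c 3) (c 4) + y 3 * y 5 * bil (c 3) (c 5) + y 4 * y 5 * bil (c 4) (c 5) := by
  have hadd : ∀ a b, qf (a + b) = qf a + qf b + bil a b := fun a b => by
    unfold bil
    generalize qf (a + b) = p
    generalize qf a = q
    generalize qf b = r
    revert p q r
    decide
  have hsmul : ∀ (t : ZMod 2) a, qf a = 0 → qf (t • a) = 0 := fun t a ha => by
    rcases (show t = 0 ∨ t = 1 by revert t; decide) with rfl | rfl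
    · rw [zero_smul]; decide
    · rwa [one_smul]
  have hl : ∀ (a b d : Ix → ZMod 2), bil (a + b) d = bil a d + bil b d := by
    intro a b d
    simp only [bil, qf, Cfsg.quadFormMinus, Pi.add_apply, Fin.sum_univ_two]
    grind
  have hs : ∀ (t u : ZMod 2) a b, bil (t • a) (u • b) = t * u * bil a b := by
    intro t u a b
    simp only [bil, qf, Cfsg.quadFormMinus, Pi.add_apply, Pi.smul_apply, smul_eq_mul,
      Fin.sum_univ_two]
    rcases (show t = 0 ∨ t = 1 by revert t; decide) with rfl | rfl <;>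
      rcases (show u = 0 ∨ u = 1 by revert u; decide) with rfl | rfl <;> grind
  simp only [Fin.sum_univ_six, hadd, hl, hs, hsmul _ _ (hc _)]
  ring

/-- The linear map of an automorphism. -/
noncomputable def mat (s : autAdj) : Matrix Ix Ix (ZMod 2) :=
  (Matrix.of fun i k => sp (lmap s (fr k)) i) *
    (Matrix.of fun k i => (frame_span (Pi.single i 1)).choose k : Matrix (Fin 6) Ix (ZMod 2))

theorem frM_inj : ∀ y : Fin 6 → ZMod 2, frM *ᵥ y = 0 → y = 0 := by decide +kernel

theorem mat_frame (s : autAdj) (y : Fin 6 → ZMod 2) :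
    mat s *ᵥ (frM *ᵥ y) = ∑ k, y k • sp (lmap s (fr k)) := by
  have hr : frM * (Matrix.of fun k i => (frame_span (Pi.single i 1)).choose k :
      Matrix (Fin 6) Ix (ZMod 2)) = 1 := by
    ext i j
    have := congrFun (frame_span (Pi.single j (1 : ZMod 2))).choose_spec i
    rw [Matrix.mul_apply, Matrix.one_apply]
    rw [Pi.single_apply] at this
    exact this
  set R := (Matrix.of fun k i => (frame_span (Pi.single i 1)).choose k :
    Matrix (Fin 6) Ix (ZMod 2))
  have hl : R *ᵥ (frM *ᵥ y) = y := by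
    have h0 : frM *ᵥ (R *ᵥ (frM *ᵥ y) - y) = 0 := by
      rw [Matrix.mulVec_sub, Matrix.mulVec_mulVec, hr, Matrix.one_mulVec, sub_self]
    exact sub_eq_zero.1 (frM_inj _ h0)
  rw [mat, ← Matrix.mulVec_mulVec, hl]
  ext i
  rw [Finset.sum_apply]
  simp only [Matrix.mulVec, dotProduct, Matrix.of_apply, Pi.smul_apply, smul_eq_mul]
  exact Finset.sum_congr rfl fun k _ => mul_comm _ _

theorem frM_mulVec (y : Fin 6 → ZMod 2) : frM *ᵥ y = ∑ k, y k • sp (fr k) := by
  ext i
  rw [Finset.sum_apply]
  simp only [Matrix.mulVec, dotProduct, frM, Matrix.of_apply, Pi.smul_apply, smul_eq_mul]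
  exact Finset.sum_congr rfl fun k _ => mul_comm _ _

theorem bil_sp (v w : Fin 27) (a b : Fin 27) (h : coll v w = coll a b) :
    bil (sp v) (sp w) = bil (sp a) (sp b) := by
  simp only [coll, decide_eq_decide] at h
  have h2 : ∀ x y : ZMod 2, (x = 0 ↔ y = 0) → x = y := by decide
  exact h2 _ _ h

theorem mat_isometry (s : autAdj) (x : Ix → ZMod 2) : qf (mat s *ᵥ x) = qf x := by
  obtain ⟨y, rfl⟩ := frame_span x
  rw [mat_frame, frM_mulVec, qf_comb _ (fun k => (sp_sing _).1), qf_comb _ (fun k => (sp_sing _).1)]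
  simp only [fun k l : Fin 6 => bil_sp _ _ _ _ (lmap_coll s (fr k) (fr l))]

theorem mat_bil (s : autAdj) (x y : Ix → ZMod 2) : bil (mat s *ᵥ x) (mat s *ᵥ y) = bil x y := by
  simp only [bil, ← Matrix.mulVec_add, mat_isometry]

theorem mat_inj (s : autAdj) {x : Ix → ZMod 2} (h : mat s *ᵥ x = 0) : x = 0 :=
  bil_nondeg x fun y => by
    rw [← mat_bil s, h]
    simp only [bil, zero_add]
    have h0 : qf (0 : Ix → ZMod 2) = 0 := by decide
    rw [h0, add_zero, CharTwo.add_self_eq_zero]

theorem mat_fr (s : autAdj) (k : Fin 6) : mat s *ᵥ sp (fr k) = sp (lmap s (fr k)) := by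
  have h : frM *ᵥ Pi.single k 1 = sp (fr k) := by
    ext i
    rw [Matrix.mulVec_single_one]
    rfl
  rw [← h, mat_frame]
  simp [Pi.single_apply]

theorem mat_sp (s : autAdj) (v : Fin 27) : mat s *ᵥ sp v = sp (lmap s v) := by
  obtain ⟨u, hu⟩ := sp_surj (mat s *ᵥ sp v) (fun h => (sp_sing v).2 (mat_inj s h))
    ((mat_isometry s _).trans (sp_sing v).1)
  have hpat : ∀ k, coll u (lmap s (fr k)) = coll v (fr k) := fun k => by
    simp only [coll, hu, ← mat_fr, mat_bil]
  have : lmap s⁻¹ u = v := pattern _ _ fun k => by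
    rw [← hpat k, ← lmap_coll s⁻¹ u, ← lmap_mul, inv_mul_cancel, lmap_one]
  rw [← hu, ← this, ← lmap_mul, mul_inv_cancel, lmap_one]

/-- The representation on the quadratic space. -/
noncomputable def repr : autAdj →* Matrix Ix Ix (ZMod 2) where
  toFun := mat
  map_one' := by
    refine Matrix.toLin'.injective (LinearMap.ext fun x => ?_)
    obtain ⟨y, rfl⟩ := frame_span x
    rw [Matrix.toLin'_apply, Matrix.toLin'_apply, Matrix.one_mulVec, mat_frame, frM_mulVec]
    simp only [lmap_one]
  map_mul' s t := by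
    refine Matrix.toLin'.injective (LinearMap.ext fun x => ?_)
    obtain ⟨y, rfl⟩ := frame_span x
    simp only [Matrix.toLin'_apply, ← Matrix.mulVec_mulVec, mat_frame, Matrix.mulVec_sum,
      Matrix.mulVec_smul, mat_sp, lmap_mul]

/-- The embedding in the isometry group. -/
noncomputable def toO : autAdj →* Cfsg.isometryGroup (ZMod 2) qf :=
  repr.toHomUnits.codRestrict _ fun s u _ => mat_isometry s u

theorem toO_injective : Function.Injective toO := by
  rw [injective_iff_map_eq_one]
  intro s hs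
  have hm : mat s = 1 := congrArg (fun g : Cfsg.isometryGroup (ZMod 2) qf =>
    ((g : GL Ix (ZMod 2)) : Matrix Ix Ix (ZMod 2))) hs
  have hv : ∀ v, lmap s v = v := fun v => sp_inj _ _ (by rw [← mat_sp, hm, Matrix.one_mulVec])
  refine Subtype.ext (Equiv.ext fun i => ?_)
  obtain ⟨v, w, hne, hiv, hiw⟩ := two_lines i
  have h1 := inc_lmap s hiv
  have h2 := inc_lmap s hiw
  rw [hv] at h1 h2
  exact inc_unique v w _ h1 h2 hne i hiv hiw

end H5.Gq
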