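/-
Codes for the field with four elements and the decidable facts about the 45 points.
-/
import Cfsg.Agent.H5.Gq.Model

set_option autoImplicit false
set_option maxRecDepth 100000
set_option linter.unusedSectionVars false

namespace H5.Gq

open Matrix

/-- Addition of codes. -/
def cadd : Fin 4 → Fin 4 → Fin 4 := ![![0, 1, 2, 3], ![1, 0, 3, 2], ![2, 3, 0, 1], ![3, 2, 1, 0]]

/-- Multiplication of codes. -/
def cmul : Fin 4 → Fin 4 → Fin 4 := ![![0, 0, 0, 0], ![0, 1, 2, 3], ![0, 2, 3, 1], ![0, 3, 1, 2]]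

/-- The Hermitian form on codes. -/
def cherm (u v : Fin 4 → Fin 4) : Fin 4 :=
  cadd (cadd (cadd (cmul (u 0) (cmul (v 0) (v 0))) (cmul (u 1) (cmul (v 1) (v 1))))
    (cmul (u 2) (cmul (v 2) (v 2)))) (cmul (u 3) (cmul (v 3) (v 3)))

theorem cherm_pt : ∀ i j, cherm (pt i) (pt j) = 0 ↔ i = j ∨ adj i j = true := by decide +kernel

theorem pt_class : ∀ c : Fin 4 → Fin 4, (∃ k, c k ≠ 0) → cherm c c = 0 →
    ∃ i s, s ≠ 0 ∧ ∀ k, c k = cmul s (pt i k) := by decide +kernel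

theorem pt_inj : ∀ i j s, (∀ k, pt j k = cmul s (pt i k)) → i = j := by decide +kernel

theorem pt_ne : ∀ i, ∃ k, pt i k ≠ 0 := by decide +kernel

theorem pt_six : pt 15 = ![1, 1, 0, 0] ∧ pt 25 = ![1, 2, 0, 0] ∧ pt 35 = ![1, 3, 0, 0] ∧
    pt 0 = ![0, 0, 1, 1] ∧ pt 1 = ![0, 0, 1, 2] ∧ pt 2 = ![0, 0, 1, 3] ∧
    pt 9 = ![1, 0, 0, 1] ∧ pt 10 = ![1, 0, 0, 2] ∧ pt 11 = ![1, 0, 0, 3] := by decide +kernel

/-- The loop of three steps with nontrivial holonomy. -/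
theorem loop_codes :
    (∀ k, cadd (pt 15 k) (cmul (cherm (pt 15) (pt 3)) (pt 3 k)) = cmul 1 (pt 9 k)) ∧
    (∀ k, cadd (pt 9 k) (cmul (cherm (pt 9) (pt 4)) (pt 4 k)) = cmul 1 (pt 35 k)) ∧
    (∀ k, cadd (pt 35 k) (cmul (cherm (pt 35) (pt 25)) (pt 25 k)) = cmul 2 (pt 15 k)) := by
  decide +kernel

theorem connect_codes : ∀ i r, i ≠ r → adj i r = false → ∃ j s, s ≠ 0 ∧
    ∀ k, cadd (pt i k) (cmul (cherm (pt i) (pt j)) (pt j k)) = cmul s (pt r k) := by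
  decide +kernel

theorem connect_adj : ∀ i r, ∃ t, (t ≠ i ∧ adj i t = false) ∧ (r ≠ t ∧ adj t r = false) := by
  decide +kernel

end H5.Gq
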