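/-
Coordinates: the 45 points in a field with four elements, and the vectors of the six-dimensional
space orthogonal to a fixed isotropic vector.
-/
import Cfsg.Agent.H5.Gq.Codes
import Cfsg.Agent.H5.TT.HermSix

set_option autoImplicit false
set_option maxRecDepth 100000
set_option linter.unusedSectionVars false

namespace H5.Gq

open Matrix Cfsg H50 H5.TT

section field

variable {F : Type*} [Field F] [Fintype F] (hF : Fintype.card F = 2 ^ 2)

/-- A primitive element. -/
noncomputable def om : F := Classical.epsilon fun w => w * w = w + 1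

/-- Codes to field elements. -/
noncomputable def emb : Fin 4 → F := ![0, 1, om, om + 1]

/-- The vector of a point. -/
noncomputable def P (i : Fin 45) : Fin 4 → F := fun k => emb (pt i k)

include hF

theorem om_sq : (om : F) * om = om + 1 := by
  apply Classical.epsilon_spec (p := fun w : F => w * w = w + 1)
  obtain ⟨p, q, r, hp, hq, hr, hpq, -, -, -⟩ := Six.exists_three hF
  have h2 := U2.add_self hF (1 : F)
  rcases eq_or_ne p 1 with rfl | h1
  · have h3 := U2.cube hF hq
    have : (q - 1) * (q * q + q + 1) = 0 := by linear_combination h3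
    have h4 : q * q + q + 1 = 0 := (mul_eq_zero.1 this).resolve_left (sub_ne_zero.2 hpq.symm)
    exact ⟨q, by linear_combination h4 - (q + 1) * h2⟩
  · have h3 := U2.cube hF hp
    have : (p - 1) * (p * p + p + 1) = 0 := by linear_combination h3
    have h4 : p * p + p + 1 = 0 := (mul_eq_zero.1 this).resolve_left (sub_ne_zero.2 h1)
    exact ⟨p, by linear_combination h4 - (p + 1) * h2⟩

theorem emb_add : ∀ a b, emb (cadd a b) = (emb a + emb b : F) := by
  intro a b
  have h2 := U2.add_self hF (1 : F)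
  have hw := U2.add_self hF (om : F)
  fin_cases a <;> fin_cases b <;> simp [emb, cadd] <;> grind

theorem emb_mul : ∀ a b, emb (cmul a b) = (emb a * emb b : F) := by
  intro a b
  have h2 := U2.add_self hF (1 : F)
  have hw := U2.add_self hF (om : F)
  have hs := om_sq hF
  fin_cases a <;> fin_cases b <;> simp [emb, cmul] <;> grind

theorem emb_eq_zero {a : Fin 4} : (emb a : F) = 0 ↔ a = 0 := by
  refine ⟨fun h => ?_, fun h => by subst h; rfl⟩
  by_contra hne
  have hc : cmul (cmul a a) a = 1 := by clear h; revert a; decide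
  have := congrArg (emb : Fin 4 → F) hc
  rw [emb_mul hF, emb_mul hF, h, mul_zero] at this
  exact zero_ne_one this

theorem emb_inj : Function.Injective (emb : Fin 4 → F) := fun a b h => by
  have h0 : (emb (cadd a b) : F) = 0 := by rw [emb_add hF, h, U2.add_self hF]
  rw [emb_eq_zero hF] at h0
  clear h
  revert a b
  decide

theorem emb_surj (x : F) : ∃ a, emb a = x :=
  ((Fintype.bijective_iff_injective_and_card _).2 ⟨emb_inj hF, by simp [hF]⟩).2 x

omit hF in
theorem herm_four (u v : Fin 4 → F) : hermForm 4 F 2 u v =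
    u 0 * (v 0 * v 0) + u 1 * (v 1 * v 1) + u 2 * (v 2 * v 2) + u 3 * (v 3 * v 3) := by
  simp only [hermForm, Fin.sum_univ_four, pow_two]

theorem emb_cherm (u v : Fin 4 → Fin 4) :
    emb (cherm u v) = hermForm 4 F 2 (fun k => emb (u k)) (fun k => emb (v k)) := by
  simp only [cherm, herm_four, emb_add hF, emb_mul hF]

theorem herm_P {i j : Fin 45} : hermForm 4 F 2 (P (F := F) i) (P j) = 0 ↔ i = j ∨ adj i j = true := by
  rw [show (P i : Fin 4 → F) = fun k => emb (pt i k) from rfl,
    show (P j : Fin 4 → F) = fun k => emb (pt j k) from rfl, ← emb_cherm hF, emb_eq_zero hF,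
    cherm_pt]

theorem exists_P {u : Fin 4 → F} (hu : u ≠ 0) (hh : hermForm 4 F 2 u u = 0) :
    ∃ i, ∃ s : F, s ≠ 0 ∧ u = s • (P i : Fin 4 → F) := by
  choose c hc using fun k => emb_surj hF (u k)
  obtain rfl : (fun k => emb (c k)) = u := funext hc
  rw [← emb_cherm hF, emb_eq_zero hF] at hh
  obtain ⟨k, hk⟩ := Function.ne_iff.mp hu
  obtain ⟨i, s, hs, hi⟩ := pt_class c ⟨k, fun h => hk (by simp [h, emb])⟩ hh
  exact ⟨i, (emb s : F), mt (emb_eq_zero hF).1 hs, funext fun k => by
    rw [Pi.smul_apply, smul_eq_mul, hi, emb_mul hF]; rfl⟩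

theorem P_ne (i : Fin 45) : (P i : Fin 4 → F) ≠ 0 := by
  obtain ⟨k, hk⟩ := pt_ne i
  exact fun h => hk ((emb_eq_zero hF).1 (congrFun h k))

theorem P_smul_inj {i j : Fin 45} {s : F} (h : (P j : Fin 4 → F) = s • P i) : i = j := by
  obtain ⟨a, rfl⟩ := emb_surj hF s
  exact pt_inj i j a fun k => emb_inj hF (by rw [emb_mul hF]; exact congrFun h k)

theorem step_of_code {i j r : Fin 45} {s : Fin 4}
    (h : ∀ k, cadd (pt i k) (cmul (cherm (pt i) (pt j)) (pt j k)) = cmul s (pt r k)) :
    (P i : Fin 4 → F) + hermForm 4 F 2 (P (F := F) i) (P j) • P j = (emb s : F) • (P r : Fin 4 → F) := by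
  funext k
  have := congrArg (emb : Fin 4 → F) (h k)
  rw [emb_add hF, emb_mul hF, emb_mul hF, emb_cherm hF] at this
  exact this

theorem plane_scalar {c₁ c₂ c₃ : F} {u v : Fin 4 → F} (B : (Fin 4 → F) →ₗ[F] Fin 4 → F)
    (h₁ : B (u + v) = c₁ • (u + v)) (h₂ : B (u + (om : F) • v) = c₂ • (u + (om : F) • v))
    (h₃ : B (u + ((om : F) + 1) • v) = c₃ • (u + ((om : F) + 1) • v))
    (hli : ∀ a b : F, a • u + b • v = 0 → a = 0 ∧ b = 0) : B u = c₁ • u ∧ B v = c₁ • v := by
  have h2 := U2.add_self hF (1 : F)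
  have hw := U2.add_self hF (om : F)
  have hom0 : (om : F) ≠ 0 := fun h => zero_ne_one (by
    have := om_sq hF; rw [h, zero_mul, zero_add] at this; exact this)
  rw [map_add] at h₁
  rw [map_add, map_smul] at h₂ h₃
  have e1 : B v = (c₂ + c₃) • u + (c₂ * om + c₃ * (om + 1)) • v := by
    funext k
    have a := congrFun h₂ k
    have b := congrFun h₃ k
    simp only [Pi.add_apply, Pi.smul_apply, smul_eq_mul] at a b ⊢
    grind
  have e2 : B u = (c₁ + c₂ + c₃) • u + (c₁ + c₂ * om + c₃ * (om + 1)) • v := by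
    funext k
    have a := congrFun h₁ k
    have b := congrFun e1 k
    simp only [Pi.add_apply, Pi.smul_apply, smul_eq_mul] at a b ⊢
    grind
  obtain ⟨ea, eb⟩ := hli (c₁ + c₂ + c₃ + om * (c₂ + c₃) + c₂)
    (c₁ + c₂ * om + c₃ * (om + 1) + om * (c₂ * om + c₃ * (om + 1)) + c₂ * om) (by
    funext k
    have a := congrFun h₂ k
    rw [e1, e2] at a
    simp only [Pi.add_apply, Pi.smul_apply, smul_eq_mul, Pi.zero_apply] at a ⊢
    grind)
  have hs := om_sq hF
  have e23 : c₂ = c₁ ∧ c₃ = c₁ := by constructor <;> grind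
  obtain ⟨rfl, rfl⟩ := e23
  constructor
  · rw [e2]
    funext k
    simp only [Pi.add_apply, Pi.smul_apply, smul_eq_mul]
    grind
  · rw [e1]
    funext k
    simp only [Pi.add_apply, Pi.smul_apply, smul_eq_mul]
    grind

theorem scalar_of_P {B : (Fin 4 → F) →ₗ[F] Fin 4 → F} {c : Fin 45 → F}
    (hB : ∀ i, B (P i) = c i • (P i : Fin 4 → F)) : ∃ μ : F, ∀ u, B u = μ • u := by
  obtain ⟨p15, p25, p35, p0, p1, p2, p9, p10, p11⟩ := pt_six
  set e : Fin 4 → Fin 4 → F := fun l => Pi.single l 1 with he
  have hv : ∀ i (a b : Fin 4) x, a ≠ b → (pt i = fun k => if k = a then 1 else if k = b then x else 0) →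
      (P i : Fin 4 → F) = e a + (emb x : F) • e b := by
    intro i a b x hab hi
    funext k
    simp only [P, hi, he, Pi.add_apply, Pi.smul_apply, smul_eq_mul, Pi.single_apply]
    rcases eq_or_ne k a with rfl | ha
    · simp [hab, emb]
    · rcases eq_or_ne k b with rfl | hb
      · simp [ha]
      · simp [ha, hb, emb]
  have hplane : ∀ (a b : Fin 4) (i j l : Fin 45), a ≠ b →
      (pt i = fun k => if k = a then 1 else if k = b then 1 else 0) →
      (pt j = fun k => if k = a then 1 else if k = b then 2 else 0) →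
      (pt l = fun k => if k = a then 1 else if k = b then 3 else 0) →
      B (e a) = c i • e a ∧ B (e b) = c i • e b := by
    intro a b i j l hab hi hj hl
    have hi' := hv i a b 1 hab hi
    have hj' := hv j a b 2 hab hj
    have hl' := hv l a b 3 hab hl
    have bi := hB i
    have bj := hB j
    have bl := hB l
    rw [hi'] at bi
    rw [hj'] at bj
    rw [hl'] at bl
    rw [show (emb 1 : F) = 1 from rfl, one_smul] at bi
    rw [show (emb 2 : F) = om from rfl] at bj
    rw [show (emb 3 : F) = om + 1 from rfl] at bl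
    refine plane_scalar hF B bi bj bl fun x y h => ?_
    have h1 := congrFun h a
    have h2 := congrFun h b
    simp [he, Pi.single_apply, hab, hab.symm] at h1 h2
    exact ⟨h1, h2⟩
  obtain ⟨h0, h1⟩ := hplane 0 1 15 25 35 (by decide) (p15.trans (by decide)) (p25.trans (by decide))
    (p35.trans (by decide))
  obtain ⟨h2, h3⟩ := hplane 2 3 0 1 2 (by decide) (p0.trans (by decide)) (p1.trans (by decide))
    (p2.trans (by decide))
  obtain ⟨h0', h3'⟩ := hplane 0 3 9 10 11 (by decide) (p9.trans (by decide)) (p10.trans (by decide))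
    (p11.trans (by decide))
  have hne : ∀ l, e l ≠ 0 := fun l h => one_ne_zero (α := F) (by simpa [he] using congrFun h l)
  have e09 : c 15 = c 9 := smul_left_injective F (hne 0) (h0.symm.trans h0')
  have e39 : c 0 = c 9 := smul_left_injective F (hne 3) (h3.symm.trans h3')
  rw [e09] at h0 h1
  rw [e39] at h2 h3
  refine ⟨c 9, fun u => ?_⟩
  have hu : u = ∑ l, u l • e l := by
    funext k
    simp [he, Finset.sum_apply, Pi.single_apply]
  rw [hu, map_sum, Finset.smul_sum]
  refine Finset.sum_congr rfl fun l _ => ?_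
  rw [map_smul, smul_comm]
  congr 1
  fin_cases l <;> assumption

theorem dot_inj {α β : Fin 4 → F} (h : ∀ i, α ⬝ᵥ P i = β ⬝ᵥ P i) : α = β := by
  obtain ⟨p15, p25, -, p0, p1, -⟩ := pt_six
  have hne : (om : F) + 1 ≠ 0 := fun h => by
    have hs := om_sq hF
    rw [h] at hs
    rcases mul_eq_zero.1 hs with h0 | h0 <;> · rw [h0, zero_add] at h; exact one_ne_zero h
  have h15 := h 15
  have h25 := h 25
  have h00 := h 0
  have h11 := h 1
  simp only [dotProduct, Fin.sum_univ_four, P, p15, p25, p0, p1] at h15 h25 h00 h11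
  simp [emb] at h15 h25 h00 h11
  funext k
  have e1 : α 1 = β 1 := mul_right_cancel₀ hne (by
    have := U2.add_self hF (α 0); have := U2.add_self hF (β 0); grind)
  have e3 : α 3 = β 3 := mul_right_cancel₀ hne (by
    have := U2.add_self hF (α 2); have := U2.add_self hF (β 2); grind)
  fin_cases k <;> simp <;> grind

end field

section six

variable {F : Type*} [Field F] [Fintype F] (hF : Fintype.card F = 2 ^ 2)

/-- The isotropic vector of the second transposition. -/
def e₀ : Fin 6 → F := ![1, 1, 0, 0, 0, 0]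

/-- The last four coordinates. -/
def tail (v : Fin 6 → F) : Fin 4 → F := ![v 2, v 3, v 4, v 5]

/-- A vector orthogonal to `e₀`. -/
def vc (a : F) (u : Fin 4 → F) : Fin 6 → F := ![a, a, u 0, u 1, u 2, u 3]

theorem tail_vc (a : F) (u : Fin 4 → F) : tail (vc a u) = u := by
  funext k; fin_cases k <;> rfl

theorem vc_zero_one (a : F) (u : Fin 4 → F) : vc a u 0 = a ∧ vc a u 1 = a := ⟨rfl, rfl⟩

theorem vc_add (a b : F) (u w : Fin 4 → F) : vc a u + vc b w = vc (a + b) (u + w) := by
  funext k; fin_cases k <;> rfl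

theorem vc_smul (c a : F) (u : Fin 4 → F) : c • vc a u = vc (c * a) (c • u) := by
  funext k; fin_cases k <;> rfl

theorem e₀_eq : (e₀ : Fin 6 → F) = vc 1 0 := by funext k; fin_cases k <;> rfl

include hF

theorem vc_herm (a b : F) (u w : Fin 4 → F) :
    hermForm 6 F 2 (vc a u) (vc b w) = hermForm 4 F 2 u w := by
  simp only [hermForm, Fin.sum_univ_six, Fin.sum_univ_four, pow_two, vc]
  have := U2.add_self hF (a * (b * b))
  simp
  grind

theorem herm_e₀ (v : Fin 6 → F) : hermForm 6 F 2 v e₀ = v 0 + v 1 := by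
  simp [hermForm, Fin.sum_univ_six, e₀]

theorem exists_vc {v : Fin 6 → F} (h : hermForm 6 F 2 v e₀ = 0) : v = vc (v 0) (tail v) := by
  rw [herm_e₀ hF] at h
  have h1 : v 1 = v 0 := by have := U2.add_self hF (v 0); grind
  funext k
  fin_cases k
  · rfl
  · exact h1
  all_goals rfl

omit hF in
theorem vc_ne (a : F) {u : Fin 4 → F} (hu : u ≠ 0) : vc a u ≠ 0 := fun h => hu (by
  rw [← tail_vc a u, h]; funext k; fin_cases k <;> rfl)

end six

end H5.Gq
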