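/-
Centres in the unitary space for the transpositions commuting with one transposition in a group of
type M(22), together with the linear action of the centraliser.
-/
import Cfsg.Agent.H65.Fischer.Types
import Cfsg.Agent.H5.TT.Tower
import Cfsg.Agent.H5.Gq.Coords

set_option autoImplicit false
set_option linter.unusedSectionVars false

namespace H5.Gq

open Matrix Cfsg H50 H5.TT H5.TT.Fac

variable {G : Type*} [Group G]

/-- Coordinates around a transposition. -/
structure Coo (D : Set G) (s : G) (F : Type*) [Field F] [Fintype F] where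
  C : G → (Fin 6 → F) → Prop
  mem : ∀ {x v}, C x v → x ∈ H99.perp D s
  vec : ∀ {x v}, C x v → v ≠ 0 ∧ hermForm 6 F 2 v v = 0
  prop : ∀ {x v w}, C x v → C x w → ∃ c : F, c ≠ 0 ∧ w = c • v
  smul : ∀ {x v} (c : F), C x v → c ≠ 0 → C x (c • v)
  ex : ∀ {x}, x ∈ H99.perp D s → ∃ v, C x v
  surj : ∀ {v}, v ≠ 0 → hermForm 6 F 2 v v = 0 → ∃ x, C x v
  comm : ∀ {x y v w}, C x v → C y w → (Commute x y ↔ hermForm 6 F 2 v w = 0)
  uniq : ∀ {x y v}, C x v → C y v → x = y
  lin : ∀ {g : G}, Commute g s → ∃ A : SU 6 F 2, ∀ x v, C x v → C (g * x * g⁻¹) (suMat A *ᵥ v)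
  tr : ∀ {x v y w}, C x v → C y w → C (x * y * x⁻¹) (w + hermForm 6 F 2 w v • v)

/-- What is used of a group of type M(22). -/
structure Setup (D : Set G) (F : Type*) [Field F] [Fintype F] : Prop where
  field : Fintype.card F = 2 ^ 2
  cls : IsThreeTranspositionClass D
  twin : NoTwin D
  five : NoFive D
  deg : ∀ s ∈ D, (H99.perp D s).ncard = 693
  kern : ∀ s ∈ D, ∀ g : G, Commute g s → (∀ y ∈ H99.perp D s, Commute g y) → g ∈ Subgroup.zpowers s
  card : ∀ s ∈ D, Nat.card (Subgroup.centralizer ({s} : Set G)) = 2 * 9196830720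
  coo : ∀ s ∈ D, ∀ t ∈ H99.perp D s, ∃ U : Coo D s F, U.C t e₀

section build

variable [Finite G] {D : Set G} {F : Type*} [Field F] [Fintype F] (hF : Fintype.card F = 2 ^ 2)
include hF

theorem card_psu : Nat.card (PSU 6 F 2) = 9196830720 := by
  have h := card_PSU_mul (n := 6) hF (by norm_num)
  rw [card_GU hF] at h
  simp only [Finset.prod_range_succ, Finset.prod_range_zero] at h
  rw [show Nat.gcd 6 (2 + 1) = 3 by decide] at h
  simp only [Nat.even_iff] at h
  norm_num at h
  omega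

theorem exists_coo (hT : IsThreeTranspositionSet D)
    (hconj : ∀ g : G, ∀ x ∈ D, g * x * g⁻¹ ∈ D) {s : G} (h : Desc D s)
    (hcent : Subgroup.centralizer ({s} : Set G) = Subgroup.closure (H99.perp D s))
    (e : Down D s ≃* PSU 6 F 2) {t : G} (ht : t ∈ H99.perp D s) :
    ∃ U : Coo D s F, U.C t e₀ := by
  let V := ucoord hF hT hconj e
  obtain ⟨vt, hvt⟩ := V.ex ht (exists_noncomm h ht)
  have he0 : (e₀ : Fin 6 → F) ≠ 0 := fun h0 => one_ne_zero (α := F) (congrFun h0 0)
  have hee : hermForm 6 F 2 (e₀ : Fin 6 → F) e₀ = 0 := by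
    simp [hermForm, Fin.sum_univ_six, e₀, U2.add_self hF]
  obtain ⟨A0, -, hA0⟩ := reach_isotropic hF (show 3 ≤ 6 by norm_num) he0 hee (V.vec hvt).1
    (V.vec hvt).2
  have hlin : ∀ (g : G) (hg : g ∈ Subgroup.closure (H99.perp D s)) (A : SU 6 F 2),
      (QuotientGroup.mk A : PSU 6 F 2) = img e g hg → ∀ x v, ctr e x v →
        ctr e (g * x * g⁻¹) (suMat A *ᵥ v) := by
    rintro g hg A hA x v ⟨hx, T, hT', hTx⟩
    refine ⟨H5.TT.Fac.perp_conj_closure hconj hg hx, A * T * A⁻¹, U2.tr_conj hF hT' A, ?_⟩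
    have hx' := Subgroup.subset_closure hx
    rw [QuotientGroup.mk_mul, QuotientGroup.mk_mul, QuotientGroup.mk_inv, hA, hTx,
      ← img_inv e hg, ← img_mul e hg hx', ← img_mul e (mul_mem hg hx') (inv_mem hg)]
  have hback : ∀ v, suMat A0⁻¹ *ᵥ (suMat A0 *ᵥ v) = v := suMat_inv_mulVec A0
  have hforth : ∀ v, suMat A0 *ᵥ (suMat A0⁻¹ *ᵥ v) = v := suMat_mulVec_inv A0
  refine ⟨{
    C := fun x v => V.C x (suMat A0 *ᵥ v)
    mem := fun h' => V.mem h'
    vec := fun {x v} h' => ?_
    prop := fun {x v w} h1 h2 => ?_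
    smul := fun {x v} c h' hc => by rw [mulVec_smul]; exact V.smul c h' hc
    ex := fun {x} hx => ?_
    surj := fun {v} hv hvv => ?_
    comm := fun {x y v w} h1 h2 => by rw [V.comm h1 h2, suMat_h]
    uniq := fun {x y v} h1 h2 => inj h (V.mem h1) (V.mem h2) (V.same h1 h2)
    lin := fun {g} hg => ?_
    tr := fun {x v y w} h1 h2 => ?_ }, by show V.C t _; rw [hA0]; exact hvt⟩
  · refine ⟨fun h0 => (V.vec h').1 (by rw [h0, mulVec_zero]), ?_⟩
    rw [← suMat_h A0]
    exact (V.vec h').2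
  · obtain ⟨c, hc, hcw⟩ := V.prop h1 h2
    refine ⟨c, hc, ?_⟩
    rw [← hback w, hcw, mulVec_smul, hback]
  · obtain ⟨v, hv⟩ := V.ex hx (exists_noncomm h hx)
    exact ⟨suMat A0⁻¹ *ᵥ v, by rw [hforth]; exact hv⟩
  · refine V.surj hF (fun h0 => hv ?_) (by rw [suMat_h]; exact hvv)
    rw [← hback v, h0, mulVec_zero]
  · have hg' : g ∈ Subgroup.closure (H99.perp D s) :=
      hcent ▸ Subgroup.mem_centralizer_singleton_iff.2 hg.eq
    obtain ⟨A, hA⟩ := QuotientGroup.mk_surjective (img e g hg')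
    refine ⟨A0⁻¹ * A * A0, fun x v hxv => ?_⟩
    simp only [suMat_mulVec_mul, hforth]
    exact hlin g hg' A hA x _ hxv
  · obtain ⟨hx, T, hT', hTx⟩ := h1
    have := hlin x (Subgroup.subset_closure hx) T hTx y _ h2
    rw [hT'.2.2, suMat_h] at this
    rw [mulVec_add, mulVec_smul]
    exact this

theorem setup_of {G : Type*} [Group G] [Finite G] {D : Set G} (hD : IsThreeTranspositionGroup D)
    (hp : IsPrimitiveUnderConj D) (h22 : IsOfTypeM22 G D)
    (hiso : ∀ s ∈ D, Desc D s ∧ Nonempty (Down D s ≃* PSU 6 F 2)) (hfive : NoFive D) :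
    Setup D F := by
  have hcl := H99.class_of_primitive hD hp
  have hset := H65.Fischer.m22_setting hD hp h22
  have hgood := H65.Fischer.m22_good hD hp h22
  have hkern : ∀ s ∈ D, ∀ g : G, Commute g s → (∀ y ∈ H99.perp D s, Commute g y) →
      g ∈ Subgroup.zpowers s := fun s hs g hg hg' =>
    H65.Fischer.kernel hset hgood.srg H65.Fischer.num_22 hs hg hg'
  refine ⟨hF, hcl, fun a ha v hv => H99.prim_vRel_eq hcl hp ha hv, hfive, hgood.srg.deg, hkern,
    fun s hs => ?_, fun s hs t ht => ?_⟩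
  · obtain ⟨-, ⟨e⟩⟩ := hiso s hs
    rw [hgood.cent s hs]
    set H := Subgroup.closure (H99.perp D s) with hH
    rw [Subgroup.card_eq_card_quotient_mul_card_subgroup (Subgroup.center H), mul_comm]
    have hq : Nat.card (H ⧸ Subgroup.center H) = 9196830720 :=
      (Nat.card_congr e.toEquiv).trans (card_psu hF)
    rw [hq]
    congr 1
    have hsH : s ∈ H := hgood.mem s hs
    have hz : Subgroup.center H = (Subgroup.zpowers s).subgroupOf H := by
      ext z
      rw [Subgroup.mem_center_iff, Subgroup.mem_subgroupOf]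
      constructor
      · intro hzc
        refine hkern s hs _ ?_ fun y hy => ?_
        · exact (congrArg Subtype.val (hzc ⟨s, hsH⟩)).symm
        · exact (congrArg Subtype.val (hzc ⟨y, Subgroup.subset_closure hy⟩)).symm
      · intro hzs w
        obtain ⟨k, hk⟩ := Subgroup.mem_zpowers_iff.1 hzs
        refine Subtype.ext ?_
        show (w : G) * z = z * w
        rw [← hk]
        exact ((H99.perpIns_commute (H99.perp_closure_le w.2)).zpow_right k).eq
    rw [hz, Nat.card_congr (Subgroup.subgroupOfEquivOfLe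
      (Subgroup.zpowers_le.2 hsH)).toEquiv, Nat.card_zpowers, hcl.1.1 s hs]
  · obtain ⟨hdesc, ⟨e⟩⟩ := hiso s hs
    exact exists_coo hF hD.1 hD.2.1 hdesc (hgood.cent s hs) e ht

end build

/-- A group of type M(22) satisfies the hypotheses. -/
theorem exists_setup [Finite G] {D : Set G} (hD : IsThreeTranspositionGroup D)
    (hp : IsPrimitiveUnderConj D) (h22 : IsOfTypeM22 G D) :
    ∃ (F : Type) (_ : Field F) (_ : Fintype F), Setup D F := by
  obtain ⟨F, hFi, hFf, hF, hall⟩ := H65.Fischer.m22_down hD hp h22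
  exact ⟨F, hFi, hFf, setup_of hF hD hp h22 (fun s hs => ⟨(hall s hs).1, (hall s hs).2.2⟩)
    (noFive_m22 hD hp h22)⟩

end H5.Gq
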