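/-
The 45 classes of four transpositions commuting with two commuting transpositions, and the action
of the centraliser of their product on them.
-/
import Cfsg.Agent.H5.Gq.Coo

set_option autoImplicit false
set_option linter.unusedSectionVars false

namespace H5.Gq

open Matrix Cfsg H50 H5.TT H5.TT.Fac

variable {G : Type*} [Group G]

/-- Two commuting transpositions with coordinates at the first. -/
structure Duo (D : Set G) (F : Type*) [Field F] [Fintype F] (d₁ d₂ : G) where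
  set' : Setup D F
  mem₁ : d₁ ∈ D
  mem₂ : d₂ ∈ H99.perp D d₁
  U : Coo D d₁ F
  ctr₂ : U.C d₂ e₀

variable {D : Set G} {F : Type*} [Field F] [Fintype F] {d₁ d₂ : G} (T : Duo D F d₁ d₂)
include T

theorem Duo.hF : Fintype.card F = 2 ^ 2 := T.set'.field

theorem Duo.tt : IsThreeTranspositionSet D := T.set'.cls.1

theorem Duo.conjD (g : G) {x : G} (hx : x ∈ D) : g * x * g⁻¹ ∈ D :=
  H99.class_conj_mem T.set'.cls g hx

theorem Duo.ne : d₂ ≠ d₁ := T.mem₂.2.1

theorem Duo.comm₁₂ : Commute d₁ d₂ := T.mem₂.2.2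

theorem Duo.exists_vcC (i : Fin 45) (a : F) : ∃ x, T.U.C x (vc a (P i)) :=
  T.U.surj (vc_ne a (P_ne T.hF i)) (by rw [vc_herm T.hF, herm_P T.hF]; exact Or.inl rfl)

/-- The members of the classes. -/
noncomputable def Duo.X (i : Fin 45) (a : F) : G := (T.exists_vcC i a).choose

theorem Duo.C_X (i : Fin 45) (a : F) : T.U.C (T.X i a) (vc a (P i)) := (T.exists_vcC i a).choose_spec

theorem Duo.mem_one (i : Fin 45) (a : F) : T.X i a ∈ H99.perp D d₁ := T.U.mem (T.C_X i a)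

theorem Duo.X_mem (i : Fin 45) (a : F) : T.X i a ∈ D := (T.mem_one i a).1

theorem Duo.mem_two (i : Fin 45) (a : F) : T.X i a ∈ H99.perp D d₂ := by
  refine ⟨T.X_mem i a, fun h => ?_, ((T.U.comm (T.C_X i a) T.ctr₂).2 ?_).symm⟩
  · obtain ⟨c, hc, hcv⟩ := T.U.prop T.ctr₂ (h ▸ T.C_X i a)
    rw [e₀_eq, vc_smul, smul_zero] at hcv
    have := congrArg tail hcv
    rw [tail_vc, tail_vc] at this
    exact P_ne T.hF i this
  · rw [e₀_eq, vc_herm T.hF, h_zero_right]
    exact T.hF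

theorem Duo.eq_X {y : G} {i : Fin 45} {a c : F} (hc : c ≠ 0)
    (h : T.U.C y (c • vc a (P i))) : y = T.X i a :=
  T.U.uniq h (T.U.smul c (T.C_X i a) hc)

theorem Duo.X_inj {i j : Fin 45} {a b : F} (h : T.X i a = T.X j b) : i = j ∧ a = b := by
  obtain ⟨c, hc, hcv⟩ := T.U.prop (T.C_X i a) (h ▸ T.C_X j b)
  rw [vc_smul] at hcv
  have ht := congrArg tail hcv
  rw [tail_vc, tail_vc] at ht
  have hij := P_smul_inj T.hF ht
  subst hij
  have h0 := congrFun hcv 0
  rw [(vc_zero_one _ _).1, (vc_zero_one _ _).1] at h0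
  obtain ⟨k, hk⟩ := Function.ne_iff.mp (P_ne T.hF i)
  have hc1 : c = 1 := mul_right_cancel₀ hk (((congrFun ht k).symm).trans (one_mul _).symm)
  exact ⟨rfl, by rw [h0, hc1, one_mul]⟩

theorem Duo.exists_X {y : G} (h1 : y ∈ H99.perp D d₁) (h2 : y ∈ H99.perp D d₂) :
    ∃ i a, y = T.X i a := by
  obtain ⟨v, hv⟩ := T.U.ex h1
  have hve := (T.U.comm hv T.ctr₂).1 h2.2.2.symm
  have hdec := exists_vc T.hF hve
  have ht : tail v ≠ 0 := by
    intro h0
    refine h2.2.1 ?_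
    have hv0 : v 0 ≠ 0 := fun h00 => (T.U.vec hv).1 (by rw [hdec, h00, h0]; funext k; fin_cases k <;> rfl)
    have he : v = v 0 • e₀ := by
      conv_lhs => rw [hdec, h0]
      rw [e₀_eq, vc_smul, smul_zero, mul_one]
    exact T.U.uniq hv (he ▸ T.U.smul (v 0) T.ctr₂ hv0)
  have hti : hermForm 4 F 2 (tail v) (tail v) = 0 := by
    rw [← vc_herm T.hF (v 0) (v 0), ← hdec]; exact (T.U.vec hv).2
  obtain ⟨i, s, hs, hsi⟩ := exists_P T.hF ht hti
  refine ⟨i, v 0 / s, T.eq_X hs ?_⟩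
  rw [vc_smul, mul_div_cancel₀ _ hs, ← hsi, ← hdec]
  exact hv

theorem Duo.commute_X (i j : Fin 45) (a b : F) :
    Commute (T.X i a) (T.X j b) ↔ i = j ∨ adj i j = true := by
  rw [T.U.comm (T.C_X i a) (T.C_X j b), vc_herm T.hF, herm_P T.hF]

theorem Duo.conj_step {i j r : Fin 45} {s : F} (hs : s ≠ 0)
    (h : P i + hermForm 4 F 2 (P (F := F) i) (P j) • P j = s • (P r : Fin 4 → F)) (a c : F) :
    T.X j c * T.X i a * (T.X j c)⁻¹ =
      T.X r ((a + hermForm 4 F 2 (P (F := F) i) (P j) * c) / s) := by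
  refine T.eq_X hs ?_
  have := T.U.tr (T.C_X j c) (T.C_X i a)
  rw [vc_herm T.hF, vc_smul, vc_add, h] at this
  rw [vc_smul, mul_div_cancel₀ _ hs]
  exact this

theorem Duo.conj_same {i j : Fin 45} (a b c : F) :
    T.X j a * T.X j b * T.X i c * (T.X j a * T.X j b)⁻¹ =
      T.X i (c + hermForm 4 F 2 (P (F := F) i) (P j) * (a + b)) := by
  have h1 := T.U.tr (T.C_X j b) (T.C_X i c)
  have h2 := T.U.tr (T.C_X j a) h1
  have hjj : hermForm 4 F 2 (P (F := F) j) (P j) = 0 := (herm_P T.hF).2 (Or.inl rfl)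
  simp only [vc_herm T.hF, vc_smul, vc_add, h_add_left, h_smul_left, hjj, mul_zero, add_zero] at h2
  have hdbl : ∀ w : Fin 4 → F, P i + w + w = P i := fun w => by
    rw [add_assoc, U2.vec_add_self T.hF, add_zero]
  rw [hdbl, show c + hermForm 4 F 2 (P (F := F) i) (P j) * b + hermForm 4 F 2 (P (F := F) i) (P j) * a
    = c + hermForm 4 F 2 (P (F := F) i) (P j) * (a + b) by ring] at h2
  rw [show T.X j a * T.X j b * T.X i c * (T.X j a * T.X j b)⁻¹ =
    T.X j a * (T.X j b * T.X i c * (T.X j b)⁻¹) * (T.X j a)⁻¹ by group]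
  exact T.U.uniq h2 (T.C_X i _)

/-- The centraliser of the product. -/
def Duo.cen (_ : Duo D F d₁ d₂) : Subgroup G := Subgroup.centralizer ({d₁ * d₂} : Set G)

theorem Duo.cen_cases {g : G} (hg : g ∈ T.cen) :
    (g * d₁ * g⁻¹ = d₁ ∧ g * d₂ * g⁻¹ = d₂) ∨ (g * d₁ * g⁻¹ = d₂ ∧ g * d₂ * g⁻¹ = d₁) := by
  have hp : (g * d₁ * g⁻¹) * (g * d₂ * g⁻¹) = d₁ * d₂ := by
    rw [show g * d₁ * g⁻¹ * (g * d₂ * g⁻¹) = g * (d₁ * d₂) * g⁻¹ by group,
      Subgroup.mem_centralizer_singleton_iff.1 hg, mul_inv_cancel_right]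
  rcases pair_unique T.tt T.set'.twin T.mem₁ T.mem₂.1 (T.conjD g T.mem₁) (T.conjD g T.mem₂.1)
    T.ne.symm (fun e => T.ne (mul_left_cancel (mul_right_cancel e)).symm) T.comm₁₂
    ((H99.conj_commute_iff g _ _).2 T.comm₁₂) hp.symm with e | e
  · exact Or.inl e
  · exact Or.inr e

theorem Duo.conj_both {g : G} (hg : g ∈ T.cen) (i : Fin 45) (a : F) :
    ∃ j b, g * T.X i a * g⁻¹ = T.X j b := by
  have h1 := H99.perp_conj (fun g _ hx => T.conjD g hx) g (T.mem_one i a)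
  have h2 := H99.perp_conj (fun g _ hx => T.conjD g hx) g (T.mem_two i a)
  rcases T.cen_cases hg with ⟨e1, e2⟩ | ⟨e1, e2⟩
  · rw [e1] at h1; rw [e2] at h2; exact T.exists_X h1 h2
  · rw [e1] at h1; rw [e2] at h2; exact T.exists_X h2 h1

/-- The image of a class. -/
noncomputable def Duo.img (g : T.cen) (i : Fin 45) : Fin 45 := (T.conj_both g.2 i 0).choose

theorem Duo.img_spec (g : T.cen) (i : Fin 45) (a : F) :
    ∃ b, (g : G) * T.X i a * (g : G)⁻¹ = T.X (T.img g i) b := by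
  obtain ⟨b₀, hb₀⟩ := (T.conj_both g.2 i 0).choose_spec
  obtain ⟨j, b, hb⟩ := T.conj_both g.2 i a
  suffices hj : T.img g i = j by exact ⟨b, hj ▸ hb⟩
  refine nbhd_inj _ _ fun k => ?_
  obtain ⟨k', c, hk'⟩ := T.conj_both (inv_mem g.2) k 0
  rw [inv_inv] at hk'
  have hX : (g : G) * T.X k' c * (g : G)⁻¹ = T.X k 0 := by rw [← hk']; group
  have e1 : Commute (T.X (T.img g i) b₀) (T.X k 0) ↔ Commute (T.X j b) (T.X k 0) := by
    rw [Duo.img, ← hb₀, ← hb, ← hX, H99.conj_commute_iff, H99.conj_commute_iff, T.commute_X,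
      T.commute_X]
  rw [T.commute_X, T.commute_X] at e1
  rw [Bool.eq_iff_iff]
  simp only [Bool.or_eq_true, decide_eq_true_eq]
  simpa only [eq_comm] using e1

theorem Duo.img_eq (g : T.cen) {i j : Fin 45} {a b : F}
    (h : (g : G) * T.X i a * (g : G)⁻¹ = T.X j b) : T.img g i = j := by
  obtain ⟨c, hc⟩ := T.img_spec g i a
  exact (T.X_inj (hc.symm.trans h)).1

theorem Duo.img_mul (g h : T.cen) (i : Fin 45) : T.img (g * h) i = T.img g (T.img h i) := by
  obtain ⟨b, hb⟩ := T.img_spec h i 0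
  obtain ⟨c, hc⟩ := T.img_spec g (T.img h i) b
  refine T.img_eq _ (a := 0) (b := c) ?_
  rw [← hc, ← hb, Subgroup.coe_mul]
  group

theorem Duo.img_one (i : Fin 45) : T.img 1 i = i :=
  T.img_eq _ (a := 0) (b := 0) (by simp)

theorem Duo.img_adj (g : T.cen) (i j : Fin 45) : adj (T.img g i) (T.img g j) = adj i j := by
  obtain ⟨a, ha⟩ := T.img_spec g i 0
  obtain ⟨b, hb⟩ := T.img_spec g j 0
  have h : (T.img g i = T.img g j ∨ adj (T.img g i) (T.img g j) = true) ↔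
      (i = j ∨ adj i j = true) := by
    rw [← T.commute_X _ _ a b, ← ha, ← hb, H99.conj_commute_iff, T.commute_X]
  have hinj : T.img g i = T.img g j → i = j := fun e => by
    have := congrArg (T.img g⁻¹) e
    rwa [← T.img_mul, ← T.img_mul, inv_mul_cancel, T.img_one, T.img_one] at this
  rcases eq_or_ne i j with rfl | hne
  · rw [adj_irrefl, adj_irrefl]
  · rw [Bool.eq_iff_iff]
    exact ⟨fun e => (h.1 (Or.inr e)).resolve_left hne,
      fun e => (h.2 (Or.inr e)).resolve_left fun e' => hne (hinj e')⟩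

/-- The action on the classes. -/
noncomputable def Duo.act : T.cen →* autAdj where
  toFun g := ⟨⟨T.img g, T.img g⁻¹,
    fun i => by rw [← T.img_mul, inv_mul_cancel, T.img_one],
    fun i => by rw [← T.img_mul, mul_inv_cancel, T.img_one]⟩, fun i j => T.img_adj g i j⟩
  map_one' := Subtype.ext (Equiv.ext fun i => T.img_one i)
  map_mul' g h := Subtype.ext (Equiv.ext fun i => T.img_mul g h i)

/-- The kernel of the action. -/
noncomputable def Duo.ker : Subgroup G := T.act.ker.map T.cen.subtype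

theorem Duo.mem_ker {g : G} :
    g ∈ T.ker ↔ g ∈ T.cen ∧ ∀ i a, ∃ b, g * T.X i a * g⁻¹ = T.X i b := by
  constructor
  · rintro ⟨g, hg, rfl⟩
    refine ⟨g.2, fun i a => ?_⟩
    obtain ⟨b, hb⟩ := T.img_spec g i a
    have : T.img g i = i := Equiv.ext_iff.1 (congrArg Subtype.val (MonoidHom.mem_ker.1 hg)) i
    rw [this] at hb
    exact ⟨b, hb⟩
  · rintro ⟨hg, h⟩
    refine ⟨⟨g, hg⟩, MonoidHom.mem_ker.2 (Subtype.ext (Equiv.ext fun i => ?_)), rfl⟩
    obtain ⟨b, hb⟩ := h i 0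
    exact T.img_eq ⟨g, hg⟩ hb

theorem Duo.cen_of_fix {g : G} (h1 : Commute g d₁) (h2 : Commute g d₂) : g ∈ T.cen :=
  Subgroup.mem_centralizer_singleton_iff.2 (h1.mul_right h2).eq

theorem Duo.commute_X_one (i : Fin 45) (a : F) : Commute (T.X i a) d₁ := (T.mem_one i a).2.2.symm

theorem Duo.commute_X_two (i : Fin 45) (a : F) : Commute (T.X i a) d₂ := (T.mem_two i a).2.2.symm

theorem Duo.pair_mem_ker (j : Fin 45) (a b : F) : T.X j a * T.X j b ∈ T.ker :=
  T.mem_ker.2 ⟨T.cen_of_fix ((T.commute_X_one j a).mul_left (T.commute_X_one j b))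
    ((T.commute_X_two j a).mul_left (T.commute_X_two j b)), fun _ _ => ⟨_, T.conj_same a b _⟩⟩

theorem Duo.d₁_mem_ker : d₁ ∈ T.ker :=
  T.mem_ker.2 ⟨T.cen_of_fix (Commute.refl d₁) T.comm₁₂, fun i a =>
    ⟨a, by rw [(T.commute_X_one i a).symm.eq, mul_inv_cancel_right]⟩⟩

theorem Duo.d₂_mem_ker : d₂ ∈ T.ker :=
  T.mem_ker.2 ⟨T.cen_of_fix T.comm₁₂.symm (Commute.refl d₂), fun i a =>
    ⟨a, by rw [(T.commute_X_two i a).symm.eq, mul_inv_cancel_right]⟩⟩

end H5.Gq
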