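/-
The hexad on a class: no element fixing four commuting transpositions exchanges the two others
whose product is the product of the four.
-/
import Cfsg.Agent.H5.Gq.Classes

set_option autoImplicit false
set_option linter.unusedSectionVars false

namespace H5.Gq

open Matrix Cfsg H50 H5.TT H5.TT.Fac

section linear

variable {F : Type*} [Field F] [Fintype F] (hF : Fintype.card F = 2 ^ 2)
include hF

theorem h_ext_r {n : ℕ} {u u' : Fin n → F} (h : ∀ v, hermForm n F 2 v u = hermForm n F 2 v u') :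
    u = u' :=
  h_ext_left hF fun v => by rw [h_symm hF v u, h, ← h_symm hF v u']

/-- The map `w ↦ h(w,u) u`. -/
theorem eq_of_isotropic {L R : (Fin 6 → F) →ₗ[F] (Fin 6 → F)}
    (h : ∀ w, w ≠ 0 → hermForm 6 F 2 w w = 0 → L w = R w) : L = R := by
  have h2 := U2.add_self hF (1 : F)
  have hs := om_sq hF
  have ho : (om : F) ≠ 0 := fun h0 => by rw [h0, zero_mul, zero_add] at hs; exact zero_ne_one hs
  have h3 : (om : F) * (om * om) = 1 := by have := U2.add_self hF (om : F); grind
  have key : ∀ i j : Fin 6, i ≠ j → L (Pi.single j 1) = R (Pi.single j 1) := by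
    intro i j hij
    have hiso : ∀ c : F, c * (c * c) = 1 →
        L (Pi.single i 1 + c • Pi.single j 1) = R (Pi.single i 1 + c • Pi.single j 1) := by
      intro c hc
      refine h _ (fun h0 => ?_) ?_
      · have := congrFun h0 i
        simp [hij] at this
      · simp only [h_add_left, h_add_right hF, h_smul_left, h_smul_right hF, h_single_single hF,
          if_neg hij, if_neg (Ne.symm hij), if_pos rfl]
        grind
    have e1 := hiso 1 (by ring)
    have e2 := hiso om h3
    simp only [map_add, map_smul, one_smul] at e1 e2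
    have hne : (1 : F) + om ≠ 0 := fun h0 => by grind
    refine smul_right_injective (Fin 6 → F) hne ?_
    funext k
    have a1 := congrFun e1 k
    have a2 := congrFun e2 k
    simp only [Pi.add_apply, Pi.smul_apply, smul_eq_mul] at a1 a2 ⊢
    grind
  refine (Pi.basisFun F (Fin 6)).ext fun j => ?_
  rw [Pi.basisFun_apply]
  obtain ⟨i, hi⟩ := exists_ne j
  exact key i j hi

end linear

variable {G : Type*} [Group G] {D : Set G} {F : Type*} [Field F] [Fintype F]

theorem no_swap_fix (S : Setup D F) {x₀ x₁ x₂ x₃ p q g : G} (h0 : x₀ ∈ D)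
    (h1 : x₁ ∈ H99.perp D x₀) (h2 : x₂ ∈ H99.perp D x₀) (h3 : x₃ ∈ H99.perp D x₀)
    (hp : p ∈ H99.perp D x₀) (hq : q ∈ H99.perp D x₀)
    (c12 : Commute x₁ x₂) (c13 : Commute x₁ x₃) (c23 : Commute x₂ x₃) (cpq : Commute p q)
    (n12 : x₁ ≠ x₂) (n13 : x₁ ≠ x₃) (n23 : x₂ ≠ x₃) (npq : p ≠ q)
    (c1p : Commute x₁ p) (c2p : Commute x₂ p) (c3p : Commute x₃ p)
    (c1q : Commute x₁ q) (c2q : Commute x₂ q) (c3q : Commute x₃ q)
    (hprod : x₀ * x₁ * x₂ * x₃ = p * q) (g0 : Commute g x₀) (g1 : Commute g x₁)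
    (g2 : Commute g x₂) (g3 : Commute g x₃) (gp : g * p * g⁻¹ = q) : False := by
  have hF := S.field
  obtain ⟨U, -⟩ := S.coo x₀ h0 x₁ h1
  obtain ⟨u₁, hu₁⟩ := U.ex h1
  obtain ⟨u₂, hu₂⟩ := U.ex h2
  obtain ⟨u₃, hu₃⟩ := U.ex h3
  obtain ⟨a, ha⟩ := U.ex hp
  obtain ⟨b, hb⟩ := U.ex hq
  have o12 := (U.comm hu₁ hu₂).1 c12
  have o13 := (U.comm hu₁ hu₃).1 c13
  have o23 := (U.comm hu₂ hu₃).1 c23
  have oab := (U.comm ha hb).1 cpq
  have o1a := (U.comm hu₁ ha).1 c1p
  have o2a := (U.comm hu₂ ha).1 c2p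
  have o3a := (U.comm hu₃ ha).1 c3p
  have o1b := (U.comm hu₁ hb).1 c1q
  have o2b := (U.comm hu₂ hb).1 c2q
  have o3b := (U.comm hu₃ hb).1 c3q
  have s21 := (h_eq_zero_comm hF).1 o12
  have s31 := (h_eq_zero_comm hF).1 o13
  have s32 := (h_eq_zero_comm hF).1 o23
  have sba := (h_eq_zero_comm hF).1 oab
  let L : (Fin 6 → F) →ₗ[F] (Fin 6 → F) :=
    { toFun := fun w => hermForm 6 F 2 w u₁ • u₁ + hermForm 6 F 2 w u₂ • u₂ + hermForm 6 F 2 w u₃ • u₃
      map_add' := fun v w => by simp only [h_add_left, add_smul]; abel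
      map_smul' := fun c w => by simp only [h_smul_left, smul_add, smul_smul, RingHom.id_apply] }
  let R : (Fin 6 → F) →ₗ[F] (Fin 6 → F) :=
    { toFun := fun w => hermForm 6 F 2 w a • a + hermForm 6 F 2 w b • b
      map_add' := fun v w => by simp only [h_add_left, add_smul]; abel
      map_smul' := fun c w => by simp only [h_smul_left, smul_add, smul_smul, RingHom.id_apply] }
  have hLR : L = R := by
    refine eq_of_isotropic hF fun w hw hww => ?_
    obtain ⟨y, hy⟩ := U.surj hw hww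
    have t1 := U.tr hu₁ (U.tr hu₂ (U.tr hu₃ hy))
    have t2 := U.tr ha (U.tr hb hy)
    have hy0 : Commute x₀ y := (U.mem hy).2.2
    have e : x₁ * (x₂ * (x₃ * y * x₃⁻¹) * x₂⁻¹) * x₁⁻¹ = p * (q * y * q⁻¹) * p⁻¹ := by
      calc x₁ * (x₂ * (x₃ * y * x₃⁻¹) * x₂⁻¹) * x₁⁻¹
          = (x₁ * x₂ * x₃) * y * (x₁ * x₂ * x₃)⁻¹ := by group
        _ = (x₀⁻¹ * (p * q)) * y * (x₀⁻¹ * (p * q))⁻¹ := by
            rw [← hprod]; group
        _ = x₀⁻¹ * ((p * q) * y * (p * q)⁻¹) * x₀ := by group
        _ = (p * q) * y * (p * q)⁻¹ := by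
            have hm : ((p * q) * y * (p * q)⁻¹) = p * (q * y * q⁻¹) * p⁻¹ := by group
            have hc : Commute x₀ ((p * q) * y * (p * q)⁻¹) :=
              hm ▸ (U.mem t2).2.2
            rw [mul_assoc, ← hc.eq, inv_mul_cancel_left]
        _ = _ := by group
    rw [e] at t1
    obtain ⟨c, hc, hcw⟩ := U.prop t1 t2
    simp only [h_add_left, h_smul_left, o12, o13, o23, s21, s31, s32, mul_zero, add_zero, oab,
      sba] at hcw
    by_contra hne
    have key : ∀ s : Fin 6 → F, hermForm 6 F 2 u₁ s = 0 → hermForm 6 F 2 u₂ s = 0 →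
        hermForm 6 F 2 u₃ s = 0 → hermForm 6 F 2 a s = 0 → hermForm 6 F 2 b s = 0 →
        hermForm 6 F 2 w s ≠ 0 → c = 1 := by
      intro s k1 k2 k3 ka kb hs
      have := congrArg (fun v => hermForm 6 F 2 v s) hcw
      simp only [h_add_left, h_smul_left, k1, k2, k3, ka, kb, mul_zero, add_zero] at this
      exact mul_right_cancel₀ hs (this.symm.trans (one_mul _).symm)
    have hc1 : c = 1 → False := fun h1' => hne (by
      rw [h1', one_smul] at hcw
      show hermForm 6 F 2 w u₁ • u₁ + hermForm 6 F 2 w u₂ • u₂ + hermForm 6 F 2 w u₃ • u₃ =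
        hermForm 6 F 2 w a • a + hermForm 6 F 2 w b • b
      refine add_left_cancel (a := w) ?_
      funext k
      have := congrFun hcw k
      simp only [Pi.add_apply, Pi.smul_apply, smul_eq_mul] at this ⊢
      linear_combination -this)
    have sa1 := (h_eq_zero_comm hF).1 o1a
    have sa2 := (h_eq_zero_comm hF).1 o2a
    have sa3 := (h_eq_zero_comm hF).1 o3a
    have sb1 := (h_eq_zero_comm hF).1 o1b
    have sb2 := (h_eq_zero_comm hF).1 o2b
    have sb3 := (h_eq_zero_comm hF).1 o3b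
    have v1 := (U.vec hu₁).2
    have v2 := (U.vec hu₂).2
    have v3 := (U.vec hu₃).2
    have va := (U.vec ha).2
    have vb := (U.vec hb).2
    refine hne ?_
    show hermForm 6 F 2 w u₁ • u₁ + hermForm 6 F 2 w u₂ • u₂ + hermForm 6 F 2 w u₃ • u₃ =
        hermForm 6 F 2 w a • a + hermForm 6 F 2 w b • b
    have z1 : hermForm 6 F 2 w u₁ = 0 :=
      of_not_not fun hz => hc1 (key u₁ v1 s21 s31 sa1 sb1 hz)
    have z2 : hermForm 6 F 2 w u₂ = 0 :=
      of_not_not fun hz => hc1 (key u₂ o12 v2 s32 sa2 sb2 hz)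
    have z3 : hermForm 6 F 2 w u₃ = 0 :=
      of_not_not fun hz => hc1 (key u₃ o13 o23 v3 sa3 sb3 hz)
    have za : hermForm 6 F 2 w a = 0 :=
      of_not_not fun hz => hc1 (key a o1a o2a o3a va sba hz)
    have zb : hermForm 6 F 2 w b = 0 :=
      of_not_not fun hz => hc1 (key b o1b o2b o3b oab vb hz)
    simp only [z1, z2, z3, za, zb, zero_smul, add_zero]
  have hLRw : ∀ w, hermForm 6 F 2 w u₁ • u₁ + hermForm 6 F 2 w u₂ • u₂ + hermForm 6 F 2 w u₃ • u₃ =
      hermForm 6 F 2 w a • a + hermForm 6 F 2 w b • b := fun w => LinearMap.congr_fun hLR w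
  have nprop : ∀ {x y : G} {v w : Fin 6 → F}, U.C x v → U.C y w → x ≠ y → ∀ c : F, w ≠ c • v := by
    intro x y v w hv hw hne c he
    have hc : c ≠ 0 := fun h0 => (U.vec hw).1 (by rw [he, h0, zero_smul])
    exact hne (U.uniq (he ▸ U.smul c hv hc) hw)
  -- the centre of `p` lies in the span of the three centres
  have ha123 : a ∈ Submodule.span F {u₁, u₂, u₃} := by
    by_cases hex : ∃ w, hermForm 6 F 2 w b = 0 ∧ hermForm 6 F 2 w a ≠ 0
    · obtain ⟨w, hwb, hwa⟩ := hex
      have := hLRw w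
      rw [hwb, zero_smul, add_zero] at this
      rw [show a = (hermForm 6 F 2 w a)⁻¹ • (hermForm 6 F 2 w a • a) by
        rw [smul_smul, inv_mul_cancel₀ hwa, one_smul], ← this]
      refine Submodule.smul_mem _ _ (add_mem (add_mem ?_ ?_) ?_) <;>
        exact Submodule.smul_mem _ _ (Submodule.subset_span (by simp))
    · push Not at hex
      exfalso
      obtain ⟨w₀, hw₀⟩ : ∃ w₀, hermForm 6 F 2 w₀ b = 1 := by
        obtain ⟨f, hf⟩ := exists_hyp_partner hF (U.vec hb).1 (U.vec hb).2
        refine ⟨f, ?_⟩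
        have := (hf.symm hF).2.2
        exact this
      refine nprop hb ha npq.symm ((hermForm 6 F 2 w₀ a) ^ 2) (h_ext_r hF fun w => ?_)
      have h0 := hex (w - hermForm 6 F 2 w b • w₀) (by rw [h_sub_left, h_smul_left, hw₀, mul_one,
        sub_self])
      rw [h_sub_left, h_smul_left, sub_eq_zero] at h0
      rw [h0, h_smul_right hF, ← pow_mul, mul_comm]
      congr 1
      rcases eq_or_ne (hermForm 6 F 2 w₀ a) 0 with hz | hz
      · rw [hz]; simp
      · rw [show (2 * 2 : ℕ) = 3 + 1 by rfl, pow_succ, U2.cube hF hz, one_mul]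
  obtain ⟨A, hA⟩ := U.lin g0
  have fixC : ∀ {x : G} {u : Fin 6 → F}, Commute g x → U.C x u → ∃ c : F, suMat A *ᵥ u = c • u := by
    intro x u hgx hu
    have := hA x u hu
    rw [hgx.eq, mul_inv_cancel_right] at this
    obtain ⟨c, -, hc⟩ := U.prop hu this
    exact ⟨c, hc⟩
  obtain ⟨c₁, hc₁⟩ := fixC g1 hu₁
  obtain ⟨c₂, hc₂⟩ := fixC g2 hu₂
  obtain ⟨c₃, hc₃⟩ := fixC g3 hu₃
  have li : ∀ x y : F, x • u₁ + y • u₂ = 0 → x = 0 ∧ y = 0 := by
    intro x y hxy
    have hy : y = 0 := by
      by_contra hy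
      refine nprop hu₁ hu₂ n12 (-(x / y)) ?_
      have := congrArg (fun v => y⁻¹ • v) hxy
      simp only [smul_add, smul_smul, inv_mul_cancel₀ hy, one_smul, smul_zero] at this
      rw [neg_smul, div_eq_inv_mul]
      exact eq_neg_of_add_eq_zero_right this
    subst hy
    rw [zero_smul, add_zero, smul_eq_zero] at hxy
    exact ⟨hxy.resolve_right (U.vec hu₁).1, rfl⟩
  by_cases h3s : u₃ ∈ Submodule.span F {u₁, u₂}
  · obtain ⟨k₁, k₂, hk⟩ := Submodule.mem_span_pair.1 h3s
    have hk1 : k₁ ≠ 0 := fun h0 => nprop hu₂ hu₃ n23 k₂ (by rw [← hk, h0, zero_smul, zero_add])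
    have hk2 : k₂ ≠ 0 := fun h0 => nprop hu₁ hu₃ n13 k₁ (by rw [← hk, h0, zero_smul, add_zero])
    rw [← hk, mulVec_add, mulVec_smul, mulVec_smul, hc₁, hc₂] at hc₃
    obtain ⟨e1, e2⟩ := li (k₁ * c₁ - c₃ * k₁) (k₂ * c₂ - c₃ * k₂) (by
      simp only [sub_smul, ← smul_smul]
      rw [show ∀ P Q R T : Fin 6 → F, P - Q + (R - T) = (P + R) - (Q + T) from
        fun P Q R T => by abel, hc₃, smul_add, sub_self])
    have ec1 : c₁ = c₃ := mul_left_cancel₀ hk1 (by linear_combination e1)
    have ec2 : c₂ = c₃ := mul_left_cancel₀ hk2 (by linear_combination e2)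
    have h12 : Submodule.span F {u₁, u₂, u₃} ≤ Submodule.span F {u₁, u₂} :=
      Submodule.span_le.2 (by
        rintro v (rfl | rfl | rfl)
        · exact Submodule.subset_span (by simp)
        · exact Submodule.subset_span (by simp)
        · exact h3s)
    obtain ⟨x, y, hxy⟩ := Submodule.mem_span_pair.1 (h12 ha123)
    have hAa : suMat A *ᵥ a = c₃ • a := by
      rw [← hxy, mulVec_add, mulVec_smul, mulVec_smul, hc₁, hc₂, ec1, ec2, smul_add, smul_comm x,
        smul_comm y]
    have hcq := hA p a ha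
    rw [gp, hAa] at hcq
    have hc3 : c₃ ≠ 0 := fun h0 => (U.vec hcq).1 (by rw [h0, zero_smul])
    exact npq (U.uniq (U.smul c₃ ha hc3) hcq)
  · -- the three centres are independent, against the rank
    have hpart : ∀ {u v z : Fin 6 → F}, z ∉ Submodule.span F {u, v} →
        ∃ w, hermForm 6 F 2 w u = 0 ∧ hermForm 6 F 2 w v = 0 ∧ hermForm 6 F 2 w z ≠ 0 := by
      intro u v z hz
      by_contra hno
      push Not at hno
      let f : (Fin 6 → F) → (Fin 6 → F) →ₗ[F] F := fun u =>
        { toFun := fun w => hermForm 6 F 2 w u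
          map_add' := fun a b => h_add_left a b u
          map_smul' := fun c a => h_smul_left c a u }
      have hker : (⨅ i : Fin 2, LinearMap.ker (![f u, f v] i)) ≤ LinearMap.ker (f z) := by
        intro w hw
        simp only [Submodule.mem_iInf, LinearMap.mem_ker] at hw ⊢
        exact hno w (hw 0) (hw 1)
      have hm := mem_span_of_iInf_ker_le_ker hker
      rw [Matrix.range_cons, Matrix.range_cons, Matrix.range_empty, Set.union_empty,
        Set.singleton_union, Submodule.mem_span_pair] at hm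
      obtain ⟨x, y, hxy⟩ := hm
      refine hz (Submodule.mem_span_pair.2 ⟨x ^ 2, y ^ 2, h_ext_r hF fun w => ?_⟩)
      have hw := LinearMap.congr_fun hxy w
      change x * hermForm 6 F 2 w u + y * hermForm 6 F 2 w v = hermForm 6 F 2 w z at hw
      rw [h_add_right hF, h_smul_right hF, h_smul_right hF, ← hw]
      have hx4 : ∀ t : F, (t ^ 2) ^ 2 = t := fun t => by
        rw [← pow_mul]
        rcases eq_or_ne t 0 with rfl | ht
        · simp
        · rw [show (2 * 2 : ℕ) = 3 + 1 by rfl, pow_succ, U2.cube hF ht, one_mul]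
      rw [hx4, hx4]
    have hin : ∀ {u v z : Fin 6 → F}, z ∉ Submodule.span F {u, v} →
        (∀ w, hermForm 6 F 2 w u • u + hermForm 6 F 2 w v • v + hermForm 6 F 2 w z • z =
          hermForm 6 F 2 w a • a + hermForm 6 F 2 w b • b) → z ∈ Submodule.span F {a, b} := by
      intro u v z hz heq
      obtain ⟨w, w1, w2, w3⟩ := hpart hz
      have := heq w
      rw [w1, w2, zero_smul, zero_smul, zero_add, zero_add] at this
      rw [show z = (hermForm 6 F 2 w z)⁻¹ • (hermForm 6 F 2 w z • z) by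
        rw [smul_smul, inv_mul_cancel₀ w3, one_smul], this]
      refine Submodule.smul_mem _ _ (add_mem ?_ ?_) <;>
        exact Submodule.smul_mem _ _ (Submodule.subset_span (by simp))
    have n1 : u₁ ∉ Submodule.span F {u₂, u₃} := by
      intro h
      obtain ⟨x, y, hxy⟩ := Submodule.mem_span_pair.1 h
      have hy : y ≠ 0 := fun h0 => nprop hu₂ hu₁ n12.symm x (by rw [← hxy, h0, zero_smul, add_zero])
      refine h3s (Submodule.mem_span_pair.2 ⟨y⁻¹, -(x / y), ?_⟩)
      rw [← hxy, smul_add, smul_smul, smul_smul, inv_mul_cancel₀ hy, one_smul, neg_smul,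
        div_eq_inv_mul]
      abel
    have n2 : u₂ ∉ Submodule.span F {u₁, u₃} := by
      intro h
      obtain ⟨x, y, hxy⟩ := Submodule.mem_span_pair.1 h
      have hy : y ≠ 0 := fun h0 => nprop hu₁ hu₂ n12 x (by rw [← hxy, h0, zero_smul, add_zero])
      refine h3s (Submodule.mem_span_pair.2 ⟨-(x / y), y⁻¹, ?_⟩)
      rw [← hxy, smul_add, smul_smul, smul_smul, inv_mul_cancel₀ hy, one_smul, neg_smul,
        div_eq_inv_mul]
      abel
    have m3 := hin h3s hLRw
    have m1 := hin n1 (fun w => by rw [← hLRw w]; abel)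
    have m2 := hin n2 (fun w => by rw [← hLRw w]; abel)
    have hle : Submodule.span F {u₁, u₂} ≤ Submodule.span F {a, b} := Submodule.span_le.2 (by
      rintro v (rfl | rfl)
      · exact m1
      · exact m2)
    have hrange : ∀ x y : Fin 6 → F, Set.range ![x, y] = {x, y} := fun x y => by
      rw [Matrix.range_cons, Matrix.range_cons, Matrix.range_empty, Set.union_empty,
        Set.singleton_union]
    have hli : LinearIndependent F ![u₁, u₂] := LinearIndependent.pair_iff.2 li
    have d1 : Module.finrank F (Submodule.span F {u₁, u₂}) = 2 := by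
      rw [← hrange, finrank_span_eq_card hli, Fintype.card_fin]
    have d2 : Module.finrank F (Submodule.span F {a, b}) ≤ 2 := by
      rw [← hrange]
      exact (finrank_range_le_card (R := F) _).trans (by simp)
    exact h3s (Submodule.eq_of_le_of_finrank_le hle (by omega) ▸ m3)

end H5.Gq
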