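/-
The kernel of the action on the classes: it fixes the two transpositions and acts on every class by
translations given by one linear functional.
-/
import Cfsg.Agent.H5.Gq.Hexad

set_option autoImplicit false
set_option linter.unusedSectionVars false

namespace H5.Gq

open Matrix Cfsg H50 H5.TT H5.TT.Fac

variable {G : Type*} [Group G] {D : Set G} {F : Type*} [Field F] [Fintype F] {d₁ d₂ : G}
  (T : Duo D F d₁ d₂)
include T

theorem Duo.five_elts : (0 : F) ≠ 1 ∧ (0 : F) ≠ om ∧ (0 : F) ≠ om + 1 ∧ (1 : F) ≠ om ∧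
    (1 : F) ≠ om + 1 ∧ (om : F) ≠ om + 1 :=
  have h := emb_inj (F := F) T.hF
  ⟨fun e => absurd (h (a₁ := 0) (a₂ := 1) e) (by decide),
    fun e => absurd (h (a₁ := 0) (a₂ := 2) e) (by decide),
    fun e => absurd (h (a₁ := 0) (a₂ := 3) e) (by decide),
    fun e => absurd (h (a₁ := 1) (a₂ := 2) e) (by decide),
    fun e => absurd (h (a₁ := 1) (a₂ := 3) e) (by decide),
    fun e => absurd (h (a₁ := 2) (a₂ := 3) e) (by decide)⟩

theorem Duo.hexad (i : Fin 45) :
    T.X i 0 * T.X i 1 * T.X i om * T.X i (om + 1) = d₁ * d₂ := by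
  obtain ⟨n01, n02, n03, n12, n13, n23⟩ := T.five_elts
  set x₀ := T.X i 0 with hx₀
  set x₁ := T.X i 1 with hx₁
  set x₂ := T.X i om with hx₂
  set x₃ := T.X i (om + 1) with hx₃
  have hc : ∀ a b, Commute (T.X i a) (T.X i b) := fun a b => (T.commute_X i i a b).2 (Or.inl rfl)
  have hsq : ∀ a, T.X i a * T.X i a = 1 := fun a => H99.tt_mul_self T.tt (T.X_mem i a)
  have hne : ∀ {a b}, a ≠ b → T.X i a ≠ T.X i b := fun h e => h (T.X_inj e).2
  set Pr := d₂ * (x₀ * x₁ * x₂ * x₃) with hPr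
  have hd1 : Commute Pr d₁ :=
    T.comm₁₂.symm.mul_left ((((T.commute_X_one i 0).mul_left (T.commute_X_one i 1)).mul_left
      (T.commute_X_one i om)).mul_left (T.commute_X_one i (om + 1)))
  have hcomm : ∀ y ∈ H99.perp D d₁, Commute Pr y := by
    intro y hy
    obtain ⟨w, hw⟩ := T.U.ex hy
    have hii : hermForm 4 F 2 (P (F := F) i) (P i) = 0 := (herm_P T.hF).2 (Or.inl rfl)
    have t := T.U.tr T.ctr₂ (T.U.tr (T.C_X i 0) (T.U.tr (T.C_X i 1)
      (T.U.tr (T.C_X i om) (T.U.tr (T.C_X i (om + 1)) hw))))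
    rw [show d₂ * (x₀ * (x₁ * (x₂ * (x₃ * y * x₃⁻¹) * x₂⁻¹) * x₁⁻¹) * x₀⁻¹) * d₂⁻¹ =
      Pr * y * Pr⁻¹ by rw [hPr]; group] at t
    have hvv : ∀ a b : F, hermForm 6 F 2 (vc a (P i)) (vc b (P i)) = 0 := fun a b => by
      rw [vc_herm T.hF, hii]
    have hve : ∀ a : F, hermForm 6 F 2 (vc a (P i)) e₀ = 0 := fun a => by
      rw [e₀_eq, vc_herm T.hF, h_zero_right T.hF]
    simp only [h_add_left, h_smul_left, hvv, hve, mul_zero, add_zero] at t
    have hsplit : ∀ a : F, vc a (P i) = vc 0 (P i) + a • e₀ := fun a => by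
      rw [e₀_eq, vc_smul, vc_add, zero_add, mul_one, smul_zero, add_zero]
    have hsum : ∀ w : Fin 6 → F,
        w + hermForm 6 F 2 w (vc (om + 1) (P i)) • vc (om + 1) (P i) +
          hermForm 6 F 2 w (vc om (P i)) • vc om (P i) + hermForm 6 F 2 w (vc 1 (P i)) • vc 1 (P i) +
          hermForm 6 F 2 w (vc 0 (P i)) • vc 0 (P i) + hermForm 6 F 2 w e₀ • e₀ = w := by
      intro w
      have h2 := U2.add_self T.hF (1 : F)
      have hs := om_sq T.hF
      rw [hsplit (om + 1), hsplit om, hsplit 1]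
      simp only [h_add_right T.hF, h_smul_right T.hF]
      funext k
      simp only [Pi.add_apply, Pi.smul_apply, smul_eq_mul]
      generalize hermForm 6 F 2 w (vc 0 (P i)) = p
      generalize hermForm 6 F 2 w e₀ = q
      generalize vc (0 : F) (P i) k = u
      generalize (e₀ : Fin 6 → F) k = e
      generalize w k = z
      grind
    rw [hsum] at t
    exact mul_inv_eq_iff_eq_mul.1 (T.U.uniq t hw)
  obtain ⟨n, hn⟩ := Subgroup.mem_zpowers_iff.1 (T.set'.kern d₁ T.mem₁ Pr hd1 hcomm)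
  have hdd : d₁ * d₁ = 1 := H99.tt_mul_self T.tt T.mem₁
  rcases Int.even_or_odd' n with ⟨m, rfl | rfl⟩
  · exfalso
    have hP : Pr = 1 := by rw [← hn, _root_.zpow_mul, zpow_two, hdd, _root_.one_zpow]
    refine T.set'.five d₂ x₀ x₁ x₂ x₃ ?_ ?_ ?_ ?_
    · simp only [List.nodup_cons, List.mem_cons, List.not_mem_nil, or_false, not_or,
        List.nodup_nil, and_true, not_false_iff]
      exact ⟨⟨(T.mem_two i 0).2.1.symm, (T.mem_two i 1).2.1.symm, (T.mem_two i om).2.1.symm,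
        (T.mem_two i _).2.1.symm⟩, ⟨hne n01, hne n02, hne n03⟩, ⟨hne n12, hne n13⟩, hne n23⟩
    · intro a ha
      simp only [List.mem_cons, List.not_mem_nil, or_false] at ha
      rcases ha with rfl | rfl | rfl | rfl | rfl
      · exact T.mem₂.1
      all_goals exact T.X_mem _ _
    · intro a ha b hb
      simp only [List.mem_cons, List.not_mem_nil, or_false] at ha hb
      rcases ha with rfl | rfl | rfl | rfl | rfl <;> rcases hb with rfl | rfl | rfl | rfl | rfl <;>
        first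
          | exact Commute.refl _
          | exact hc _ _
          | exact T.commute_X_two _ _
          | exact (T.commute_X_two _ _).symm
    · have h3 : x₁ * x₂ * x₃ * (x₁ * x₂ * x₃) = 1 := by
        calc x₁ * x₂ * x₃ * (x₁ * x₂ * x₃) = x₁ * x₂ * (x₃ * x₁) * x₂ * x₃ := by group
          _ = x₁ * (x₂ * x₁) * (x₃ * x₂) * x₃ := by
              rw [show Commute x₃ x₁ from hc _ _]; group
          _ = (x₁ * x₁) * (x₂ * x₂) * (x₃ * x₃) := by
              rw [show Commute x₂ x₁ from hc _ _, show Commute x₃ x₂ from hc _ _]; group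
          _ = 1 := by simp only [hx₁, hx₂, hx₃, hsq, mul_one]
      calc d₂ * x₀ = d₂ * x₀ * (x₁ * x₂ * x₃ * (x₁ * x₂ * x₃)) := by rw [h3, mul_one]
        _ = Pr * (x₁ * x₂ * x₃) := by rw [hPr]; group
        _ = x₁ * x₂ * x₃ := by rw [hP, one_mul]
  · have hP : Pr = d₁ := by
      rw [← hn, _root_.zpow_add, _root_.zpow_mul, zpow_two, hdd, _root_.one_zpow, one_mul, zpow_one]
    calc x₀ * x₁ * x₂ * x₃ = d₂ * d₂ * (x₀ * x₁ * x₂ * x₃) := by
          rw [H99.tt_mul_self T.tt T.mem₂.1, one_mul]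
      _ = d₂ * d₁ := by rw [mul_assoc, ← hPr, hP]
      _ = d₁ * d₂ := T.comm₁₂.symm.eq

theorem Duo.shift_ker (i : Fin 45) (δ : F) :
    ∃ k ∈ T.ker, Commute k d₁ ∧ Commute k d₂ ∧ ∀ a, k * T.X i a * k⁻¹ = T.X i (a + δ) := by
  obtain ⟨t, ⟨hti, hadj⟩, -⟩ := connect_adj i i
  have hh : hermForm 4 F 2 (P (F := F) i) (P t) ≠ 0 := fun h0 =>
    ((herm_P T.hF).1 h0).elim (fun e => hti e.symm) (fun e => by rw [e] at hadj; simp at hadj)
  refine ⟨T.X t 0 * T.X t (δ / hermForm 4 F 2 (P (F := F) i) (P t)), T.pair_mem_ker t _ _,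
    (T.commute_X_one t _).mul_left (T.commute_X_one t _),
    (T.commute_X_two t _).mul_left (T.commute_X_two t _), fun a => ?_⟩
  rw [T.conj_same, zero_add, mul_div_cancel₀ _ hh]

theorem Duo.no_swap {g : G} (hg : g ∈ T.ker) : g * d₁ * g⁻¹ = d₁ ∧ g * d₂ * g⁻¹ = d₂ := by
  obtain ⟨hgc, hfix⟩ := T.mem_ker.1 hg
  rcases T.cen_cases hgc with h | ⟨hs1, hs2⟩
  · exact h
  exfalso
  choose f hf using hfix
  have hfinj : ∀ i, Function.Injective (f i) := fun i a b h => by
    refine (T.X_inj ((MulAut.conj g).injective ?_ : T.X i a = T.X i b)).2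
    simp only [MulAut.conj_apply]
    rw [hf, hf, h]
  have hstep : ∀ {i j r : Fin 45} {s : F}, s ≠ 0 →
      P i + hermForm 4 F 2 (P (F := F) i) (P j) • P j = s • (P r : Fin 4 → F) → ∀ a c,
      f r ((a + hermForm 4 F 2 (P (F := F) i) (P j) * c) / s) =
        (f i a + hermForm 4 F 2 (P (F := F) i) (P j) * f j c) / s := by
    intro i j r s hs h a c
    refine (T.X_inj (i := r) (j := r) ?_).2
    rw [← hf, ← T.conj_step hs h a c, ← T.conj_step hs h, ← hf i a, ← hf j c]
    group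
  set d : Fin 45 → F → F := fun i a => f i a + f i 0 with hd
  have h2 := fun x : F => U2.add_self T.hF x
  have hlin : ∀ {i j r : Fin 45} {s : F}, s ≠ 0 →
      P i + hermForm 4 F 2 (P (F := F) i) (P j) • P j = s • (P r : Fin 4 → F) → ∀ a,
      d r (a / s) = d i a / s := by
    intro i j r s hs h a
    have e1 := hstep hs h a 0
    have e2 := hstep hs h 0 0
    rw [mul_zero, add_zero] at e1 e2
    rw [zero_div] at e2
    simp only [hd]
    rw [e1, e2, ← add_div]
    congr 1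
    linear_combination h2 (hermForm 4 F 2 (P (F := F) i) (P j) * f j 0)
  obtain ⟨l1, l2, l3⟩ := loop_codes
  have hom0 : (om : F) ≠ 0 := (T.five_elts.2.1).symm
  have s1 := hlin (s := (emb 1 : F)) one_ne_zero (step_of_code T.hF l1)
  have s2 := hlin (s := (emb 1 : F)) one_ne_zero (step_of_code T.hF l2)
  have s3 := hlin (s := (emb 2 : F)) hom0 (step_of_code T.hF l3)
  have hhol : ∀ a, d 15 (a / om) = d 15 a / om := by
    intro a
    have e1 := s1 a
    have e2 := s2 a
    have e3 := s3 a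
    simp only [show (emb 1 : F) = 1 from rfl, show (emb 2 : F) = om from rfl, div_one] at e1 e2 e3
    rw [e3, e2, e1]
  set t := d 15 1 with ht
  have hmul : ∀ a, d 15 (om * a) = om * d 15 a := fun a => by
    have := hhol (om * a)
    rw [mul_div_cancel_left₀ _ hom0] at this
    rw [this, mul_div_cancel₀ _ hom0]
  have hlin15 : ∀ a, f 15 a = t * a + f 15 0 := by
    intro a
    have key : d 15 a = t * a := by
      obtain ⟨c, rfl⟩ := emb_surj T.hF a
      fin_cases c
      · show f 15 0 + f 15 0 = t * 0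
        rw [h2, mul_zero]
      · show d 15 1 = t * 1
        rw [mul_one, ht]
      · show d 15 om = t * om
        rw [mul_comm, ht, ← hmul 1, mul_one]
      · show d 15 (om + 1) = t * (om + 1)
        rw [← om_sq T.hF, hmul, show d 15 om = t * om by rw [mul_comm, ht, ← hmul 1, mul_one]]
        ring
    rw [← key, hd, add_assoc, h2, add_zero]
  have htne : t ≠ 0 := fun h0 =>
    T.five_elts.1 (hfinj 15 (by rw [hlin15 0, hlin15 1, h0, zero_mul, zero_mul]))
  -- the cube is a translation on the class, still exchanging the two transpositions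
  have hconj : ∀ a, g * T.X 15 a * g⁻¹ = T.X 15 (t * a + f 15 0) := fun a => by rw [hf, hlin15]
  have hcube : ∀ a, g ^ 3 * T.X 15 a * (g ^ 3)⁻¹ = T.X 15 (a + (t * t + t + 1) * f 15 0) := by
    intro a
    rw [pow_three, show g * (g * g) * T.X 15 a * (g * (g * g))⁻¹ = g * (g * (g * T.X 15 a * g⁻¹) * g⁻¹) * g⁻¹ by group,
      hconj, hconj, hconj]
    congr 1
    linear_combination a * U2.cube T.hF htne
  obtain ⟨k, -, hk1, hk2, hk⟩ := T.shift_ker 15 ((t * t + t + 1) * f 15 0)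
  set u := k * g ^ 3 with hu
  have hufix : ∀ a, Commute u (T.X 15 a) := fun a => by
    refine mul_inv_eq_iff_eq_mul.1 ?_
    rw [hu, show k * g ^ 3 * T.X 15 a * (k * g ^ 3)⁻¹ = k * (g ^ 3 * T.X 15 a * (g ^ 3)⁻¹) * k⁻¹ by
      group, hcube, hk, add_assoc, h2, add_zero]
  have hswap : u * d₁ * u⁻¹ = d₂ := by
    rw [hu, pow_three, show k * (g * (g * g)) * d₁ * (k * (g * (g * g)))⁻¹ = k * (g * (g * (g * d₁ * g⁻¹) * g⁻¹) * g⁻¹) * k⁻¹
      by group, hs1, hs2, hs1, hk2.eq, mul_inv_cancel_right]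
  obtain ⟨n01, n02, n03, n12, n13, n23⟩ := T.five_elts
  have hp : ∀ a b, a ≠ b → T.X 15 b ∈ H99.perp D (T.X 15 a) := fun a b hne =>
    ⟨T.X_mem _ _, fun e => hne (T.X_inj e).2.symm, (T.commute_X _ _ _ _).2 (Or.inl rfl)⟩
  have hne : ∀ {a b}, a ≠ b → T.X 15 a ≠ T.X 15 b := fun h e => h (T.X_inj e).2
  exact no_swap_fix T.set' (T.X_mem 15 0) (hp 0 1 n01) (hp 0 om n02) (hp 0 (om + 1) n03)
    (H65.Fischer.perp_mem_symm T.mem₁ (T.mem_one 15 0))
    (H65.Fischer.perp_mem_symm T.mem₂.1 (T.mem_two 15 0))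
    ((T.commute_X _ _ _ _).2 (Or.inl rfl)) ((T.commute_X _ _ _ _).2 (Or.inl rfl))
    ((T.commute_X _ _ _ _).2 (Or.inl rfl)) T.comm₁₂ (hne n12) (hne n13) (hne n23) T.ne.symm
    (T.commute_X_one _ _) (T.commute_X_one _ _) (T.commute_X_one _ _)
    (T.commute_X_two _ _) (T.commute_X_two _ _) (T.commute_X_two _ _)
    (T.hexad 15) (hufix 0) (hufix 1) (hufix om) (hufix (om + 1)) hswap

theorem Duo.ker_commute {g : G} (hg : g ∈ T.ker) : Commute g d₁ ∧ Commute g d₂ :=
  ⟨mul_inv_eq_iff_eq_mul.1 (T.no_swap hg).1, mul_inv_eq_iff_eq_mul.1 (T.no_swap hg).2⟩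

end H5.Gq
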