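/-
An element of the kernel acts on all classes by translations with one linear functional; the
functional is trivial only on the subgroup generated by the two transpositions.
-/
import Cfsg.Agent.H5.Gq.Kernel

set_option autoImplicit false
set_option linter.unusedSectionVars false

namespace H5.Gq

open Matrix Cfsg H50 H5.TT H5.TT.Fac

section linear

variable {F : Type*} [Field F] [Fintype F]

theorem vc_zero_lin (c : F) (u v : Fin 4 → F) :
    vc 0 (u + v) = vc (0 : F) u + vc 0 v ∧ vc 0 (c • u) = c • vc (0 : F) u :=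
  ⟨by rw [vc_add, add_zero], by rw [vc_smul, mul_zero]⟩

/-- The vector completing `e₀` and the four middle basis vectors to a basis. -/
def f₀ : Fin 6 → F := ![1, 0, 0, 0, 0, 0]

variable (hF : Fintype.card F = 2 ^ 2)
include hF

theorem decomp (v : Fin 6 → F) : v = vc (v 1) (tail v) + (v 0 + v 1) • f₀ := by
  have := U2.add_self hF (v 1)
  funext k
  fin_cases k <;> simp [vc, tail, f₀, add_comm (v 0)]
  rw [← add_assoc, this, zero_add]

theorem det_A_eq {A : Matrix (Fin 6) (Fin 6) F} {lam μ : F} {β : Fin 4 → F} (y : Fin 6 → F)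
    (hA : ∀ a u, A *ᵥ vc a u = vc (a * lam + β ⬝ᵥ u) (μ • u)) (hy : A *ᵥ f₀ = y) :
    A.det = lam * μ ^ 4 * (y 0 + y 1) := by
  set Q : Matrix (Fin 6) (Fin 6) F :=
    !![1,0,0,0,0,1; 1,0,0,0,0,0; 0,1,0,0,0,0; 0,0,1,0,0,0; 0,0,0,1,0,0; 0,0,0,0,1,0] with hQ
  set U : Matrix (Fin 6) (Fin 6) F :=
    !![lam, β 0, β 1, β 2, β 3, y 1; 0, μ, 0, 0, 0, y 2; 0, 0, μ, 0, 0, y 3; 0, 0, 0, μ, 0, y 4;
      0, 0, 0, 0, μ, y 5; 0, 0, 0, 0, 0, y 0 + y 1] with hU
  have hQd : Q.det ≠ 0 := by
    intro h0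
    have h1 : Q * !![0,1,0,0,0,0; 0,0,1,0,0,0; 0,0,0,1,0,0; 0,0,0,0,1,0; 0,0,0,0,0,1; 1,-1,0,0,0,0] =
        1 := by
      ext i j
      fin_cases i <;> fin_cases j <;> simp [hQ, Matrix.mul_apply, Fin.sum_univ_six]
    have := congrArg Matrix.det h1
    rw [det_mul, h0, zero_mul, det_one] at this
    exact zero_ne_one this
  have hcol : A * Q = Q * U := by
    have h1 : A *ᵥ vc 1 0 = vc lam 0 := by rw [hA]; simp
    have hk : ∀ k : Fin 4, A *ᵥ vc 0 (Pi.single k 1) = vc (β k) (μ • Pi.single k 1) := fun k => by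
      rw [hA]; simp
    have h2 := U2.add_self hF (y 1)
    refine Matrix.ext fun i j => ?_
    have e : (A * Q) i j = (A *ᵥ fun r => Q r j) i := rfl
    rw [e]
    fin_cases j
    · rw [show (fun r => Q r _) = vc 1 0 by funext r; fin_cases r <;> simp [hQ, vc], h1]
      fin_cases i <;> simp [hQ, hU, vc, Matrix.mul_apply, Fin.sum_univ_six]
    · rw [show (fun r => Q r _) = vc 0 (Pi.single 0 1) by funext r; fin_cases r <;> simp [hQ, vc], hk]
      fin_cases i <;> simp [hQ, hU, vc, Matrix.mul_apply, Fin.sum_univ_six]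
    · rw [show (fun r => Q r _) = vc 0 (Pi.single 1 1) by funext r; fin_cases r <;> simp [hQ, vc], hk]
      fin_cases i <;> simp [hQ, hU, vc, Matrix.mul_apply, Fin.sum_univ_six]
    · rw [show (fun r => Q r _) = vc 0 (Pi.single 2 1) by funext r; fin_cases r <;> simp [hQ, vc], hk]
      fin_cases i <;> simp [hQ, hU, vc, Matrix.mul_apply, Fin.sum_univ_six]
    · rw [show (fun r => Q r _) = vc 0 (Pi.single 3 1) by funext r; fin_cases r <;> simp [hQ, vc], hk]
      fin_cases i <;> simp [hQ, hU, vc, Matrix.mul_apply, Fin.sum_univ_six]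
    · rw [show (fun r => Q r _) = f₀ by funext r; fin_cases r <;> simp [hQ, f₀], hy]
      fin_cases i <;> simp [hQ, hU, Matrix.mul_apply, Fin.sum_univ_six]
      rw [add_left_comm, h2, add_zero]
  have htri : U.BlockTriangular id := fun i j hij => by
    revert hij
    fin_cases i <;> fin_cases j <;> simp [hU]
  have hdU : U.det = lam * μ ^ 4 * (y 0 + y 1) := by
    rw [det_of_upperTriangular htri, Fin.prod_univ_six, show U 0 0 = lam by simp [hU],
      show U 1 1 = μ by simp [hU], show U 2 2 = μ by simp [hU], show U 3 3 = μ by simp [hU],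
      show U 4 4 = μ by simp [hU], show U 5 5 = y 0 + y 1 by simp [hU]]
    ring
  have := congrArg Matrix.det hcol
  rw [det_mul, det_mul, mul_comm Q.det] at this
  rw [← hdU]
  exact mul_right_cancel₀ hQd this

end linear

variable {G : Type*} [Group G] {D : Set G} {F : Type*} [Field F] [Fintype F] {d₁ d₂ : G}
  (T : Duo D F d₁ d₂)
include T

theorem Duo.fixed_central {g : G} (hg : Commute g d₁)
    (h : ∀ y v, T.U.C y v → T.U.C (g * y * g⁻¹) v) : g ∈ Subgroup.zpowers d₁ := by
  refine T.set'.kern d₁ T.mem₁ g hg fun y hy => ?_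
  obtain ⟨v, hv⟩ := T.U.ex hy
  exact mul_inv_eq_iff_eq_mul.1 (T.U.uniq (h y v hv) hv)

theorem Duo.kernel_form {g : G} (hg : g ∈ T.ker) :
    ∃ α : Fin 4 → F, (∀ i a, g * T.X i a * g⁻¹ = T.X i (a + α ⬝ᵥ P i)) ∧
      (α = 0 → g ∈ Subgroup.closure ({d₁, d₂} : Set G)) := by
  have hF := T.hF
  obtain ⟨hg1, hg2⟩ := T.ker_commute hg
  obtain ⟨-, hfix⟩ := T.mem_ker.1 hg
  choose f hf using hfix
  obtain ⟨A, hA⟩ := T.U.lin hg1
  obtain ⟨lam, hlam, hAe⟩ : ∃ lam : F, lam ≠ 0 ∧ suMat A *ᵥ e₀ = lam • e₀ := by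
    have := hA d₂ e₀ T.ctr₂
    rw [hg2.eq, mul_inv_cancel_right] at this
    exact T.U.prop T.ctr₂ this
  choose c hc0 hc using fun i a => T.U.prop (T.C_X i (f i a)) (hf i a ▸ hA _ _ (T.C_X i a))
  have hlin : ∀ (r : F) (u v : Fin 4 → F),
      suMat A *ᵥ vc 0 (u + v) = suMat A *ᵥ vc 0 u + suMat A *ᵥ vc 0 v ∧
      suMat A *ᵥ vc 0 (r • u) = r • (suMat A *ᵥ vc 0 u) := fun r u v => by
    rw [(vc_zero_lin r u v).1, (vc_zero_lin r u v).2, mulVec_add, mulVec_smul]
    exact ⟨rfl, rfl⟩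
  have tadd : ∀ v w : Fin 6 → F, tail (v + w) = tail v + tail w := fun v w => by
    funext k; fin_cases k <;> rfl
  have tsmul : ∀ (r : F) (v : Fin 6 → F), tail (r • v) = r • tail v := fun r v => by
    funext k; fin_cases k <;> rfl
  let B : (Fin 4 → F) →ₗ[F] (Fin 4 → F) :=
    { toFun := fun u => tail (suMat A *ᵥ vc 0 u)
      map_add' := fun u v => by rw [(hlin 0 u v).1, tadd]
      map_smul' := fun r u => by rw [(hlin r u u).2, tsmul, RingHom.id_apply] }
  obtain ⟨μ, hμ⟩ := scalar_of_P hF (B := B) (c := fun i => c i 0) fun i => by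
    show tail (suMat A *ᵥ vc 0 (P i)) = c i 0 • P i
    rw [hc, tsmul, tail_vc]
  let β : Fin 4 → F := fun k => (suMat A *ᵥ vc 0 (Pi.single k 1)) 0
  have hvc : ∀ a u, suMat A *ᵥ vc a u = vc (a * lam + β ⬝ᵥ u) (μ • u) := by
    intro a u
    have hperp : hermForm 6 F 2 (suMat A *ᵥ vc 0 u) e₀ = 0 := by
      have h := suMat_h A (vc 0 u) e₀
      rw [hAe, h_smul_right hF] at h
      refine (mul_eq_zero.1 (h.trans ?_)).resolve_left (pow_ne_zero _ hlam)
      rw [e₀_eq, vc_herm hF, h_zero_right hF]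
    have hβ : (suMat A *ᵥ vc 0 u) 0 = β ⬝ᵥ u := by
      have hu : u = ∑ k, u k • (Pi.single k (1 : F) : Fin 4 → F) := by
        funext j; simp [Finset.sum_apply, Pi.single_apply]
      have hsum : vc (0 : F) u = ∑ k, u k • vc (0 : F) (Pi.single k 1) := by
        rw [Fin.sum_univ_four]
        simp only [← (vc_zero_lin _ _ (0 : Fin 4 → F)).2]
        simp only [← (vc_zero_lin (0 : F) _ _).1]
        rw [← Fin.sum_univ_four (f := fun k => u k • (Pi.single k (1 : F) : Fin 4 → F)), ← hu]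
      rw [hsum, mulVec_sum]
      simp only [Finset.sum_apply, mulVec_smul, Pi.smul_apply, smul_eq_mul, dotProduct, β]
      exact Finset.sum_congr rfl fun k _ => mul_comm _ _
    have h0 := exists_vc hF hperp
    rw [hβ, show tail (suMat A *ᵥ vc 0 u) = μ • u from hμ u] at h0
    calc suMat A *ᵥ vc a u = suMat A *ᵥ (a • e₀ + vc 0 u) := by
          congr 1; rw [e₀_eq, vc_smul, vc_add, smul_zero, zero_add, mul_one, add_zero]
      _ = _ := by
          rw [mulVec_add, mulVec_smul, hAe, h0, e₀_eq, vc_smul, vc_smul, vc_add]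
          simp
  set y := suMat A *ᵥ f₀ with hy
  have hfe : hermForm 6 F 2 (f₀ : Fin 6 → F) e₀ = 1 := by rw [herm_e₀ hF]; simp [f₀]
  have hν : (y 0 + y 1) * lam ^ 2 = 1 := by
    rw [← herm_e₀ hF y, mul_comm, ← h_smul_right hF, ← hAe, suMat_h, hfe]
  have hdet : lam * μ ^ 4 * (y 0 + y 1) = 1 := by
    rw [← det_A_eq hF (A := suMat A) (β := β) y hvc rfl]
    exact A.1.2
  have hμ0 : μ ≠ 0 := fun h0 => by simp [h0] at hdet
  have hν' : y 0 + y 1 = lam := by
    calc y 0 + y 1 = (y 0 + y 1) * lam ^ 3 := by rw [U2.cube hF hlam, mul_one]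
      _ = (y 0 + y 1) * lam ^ 2 * lam := by ring
      _ = lam := by rw [hν, one_mul]
  have hlm : lam = μ := by
    rw [hν', show lam * μ ^ 4 * lam = lam ^ 2 * μ * μ ^ 3 by ring, U2.cube hF hμ0, mul_one] at hdet
    calc lam = lam * (lam ^ 2 * μ) := by rw [hdet, mul_one]
      _ = lam ^ 3 * μ := by ring
      _ = μ := by rw [U2.cube hF hlam, one_mul]
  subst hlm
  refine ⟨lam⁻¹ • β, fun i a => ?_, fun hα => ?_⟩
  · have h1 := hA _ _ (T.C_X i a)
    rw [hvc] at h1
    refine T.eq_X hlam ?_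
    rw [vc_smul, mul_add, mul_comm lam a]
    convert h1 using 2
    rw [smul_dotProduct, smul_eq_mul, ← mul_assoc, mul_inv_cancel₀ hlam, one_mul]
  · -- the functional vanishes
    have hβ0 : β = 0 := (smul_eq_zero.1 hα).resolve_left (inv_ne_zero hlam)
    rw [hβ0] at hvc
    simp only [zero_dotProduct, add_zero] at hvc
    set z := lam⁻¹ • y with hz
    have hyz : y = lam • z := by rw [hz, smul_smul, mul_inv_cancel₀ hlam, one_smul]
    have hAvc : ∀ a u, suMat A *ᵥ vc a u = lam • vc a u := fun a u => by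
      rw [hvc, vc_smul, mul_comm a]
    have hinv : ∀ a u, hermForm 6 F 2 z (vc a u) = a ^ 2 := by
      intro a u
      have h := suMat_h A f₀ (vc a u)
      rw [← hy, hyz, hAvc, h_smul_left, h_smul_right hF, ← mul_assoc, ← pow_succ',
        U2.cube hF hlam, one_mul] at h
      rw [h]
      simp [hermForm, Fin.sum_univ_six, f₀, vc]
    have hz01 : z 0 + z 1 = 1 := by
      have := hinv 1 0
      rw [← e₀_eq, herm_e₀ hF, one_pow] at this
      exact this
    have hzt : tail z = 0 := by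
      funext k
      have := hinv 0 (Pi.single k 1)
      simp [hermForm, Fin.sum_univ_six, vc] at this
      fin_cases k <;> simpa [tail] using this
    have hzz : hermForm 6 F 2 z z = 1 := by
      have h := suMat_h A f₀ f₀
      rw [← hy, hyz, h_smul_left, h_smul_right hF, ← mul_assoc, ← pow_succ', U2.cube hF hlam,
        one_mul] at h
      rw [h]
      simp [hermForm, Fin.sum_univ_six, f₀]
    have hdec : z = vc (z 1) 0 + f₀ := by
      conv_lhs => rw [decomp hF z, hz01, one_smul, hzt]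
    have hAv : ∀ v : Fin 6 → F, suMat A *ᵥ v = lam • (v + ((v 0 + v 1) * z 1) • e₀) := by
      intro v
      conv_lhs => rw [decomp hF v, mulVec_add, mulVec_smul, hAvc, ← hy, hyz, hdec]
      conv_rhs => rw [decomp hF v]
      rw [e₀_eq]
      funext k
      simp only [Pi.add_apply, Pi.smul_apply, smul_eq_mul]
      have h01 : (vc (v 1) (tail v) + (v 0 + v 1) • f₀ : Fin 6 → F) 0 + (vc (v 1) (tail v) + (v 0 + v 1) • f₀ : Fin 6 → F) 1 =
          v 0 + v 1 := by rw [← decomp hF v]
      simp only [Pi.add_apply, Pi.smul_apply, smul_eq_mul] at h01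
      rw [h01]
      rw [show vc (z 1) (0 : Fin 4 → F) k = z 1 * vc 1 (0 : Fin 4 → F) k by
        fin_cases k <;> simp [vc]]
      ring
    have hz1 : z 1 = 0 ∨ z 1 = 1 := by
      by_contra hno
      push Not at hno
      have h0 : z 0 = z 1 + 1 := by have := U2.add_self hF (z 1); grind
      have hne : z 1 + 1 ≠ 0 := fun h => hno.2 (by have := U2.add_self hF (1 : F); grind)
      have hzz' : hermForm 6 F 2 z z = (z 0) ^ 3 + (z 1) ^ 3 := by
        have e2 : z 2 = 0 := congrFun hzt 0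
        have e3 : z 3 = 0 := congrFun hzt 1
        have e4 : z 4 = 0 := congrFun hzt 2
        have e5 : z 5 = 0 := congrFun hzt 3
        simp [hermForm, Fin.sum_univ_six, e2, e3, e4, e5]
        ring
      rw [hzz', h0, U2.cube hF hne, U2.cube hF hno.1, U2.add_self hF] at hzz
      exact zero_ne_one hzz
    rcases hz1 with h | h
    · refine Subgroup.closure_mono (Set.singleton_subset_iff.2 (Set.mem_insert d₁ _)) ?_
      rw [← Subgroup.zpowers_eq_closure]
      refine T.fixed_central hg1 fun y v hv => ?_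
      have := hA y v hv
      rw [hAv, h, mul_zero, zero_smul, add_zero] at this
      simpa [smul_smul, inv_mul_cancel₀ hlam] using T.U.smul lam⁻¹ this (inv_ne_zero hlam)
    · have hmem : d₂⁻¹ * g ∈ Subgroup.zpowers d₁ := by
        refine T.fixed_central (T.comm₁₂.symm.inv_left.mul_left hg1) fun y v hv => ?_
        have h3 := hA y v hv
        rw [hAv, h, mul_one, ← herm_e₀ hF] at h3
        have h3' := T.U.smul lam⁻¹ h3 (inv_ne_zero hlam)
        rw [smul_smul, inv_mul_cancel₀ hlam, one_smul] at h3'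
        have h4 := T.U.tr T.ctr₂ h3'
        have hee : hermForm 6 F 2 (e₀ : Fin 6 → F) e₀ = 0 := (T.U.vec T.ctr₂).2
        rw [h_add_left, h_smul_left, hee, mul_zero, add_zero, add_assoc, U2.vec_add_self hF,
          add_zero] at h4
        rwa [show d₂⁻¹ * g * y * (d₂⁻¹ * g)⁻¹ = d₂ * (g * y * g⁻¹) * d₂⁻¹ by
          rw [H99.tt_inv T.tt T.mem₂.1, _root_.mul_inv_rev, H99.tt_inv T.tt T.mem₂.1]; group]
      have := mul_mem (Subgroup.subset_closure (k := ({d₁, d₂} : Set G)) (by simp : d₂ ∈ ({d₁, d₂} : Set G)))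
        (Subgroup.closure_mono (k := ({d₁, d₂} : Set G)) (Set.singleton_subset_iff.2 (by simp))
          (Subgroup.zpowers_eq_closure d₁ ▸ hmem))
      rwa [mul_inv_cancel_left] at this

end H5.Gq
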