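/-
The kernel of the action on the classes is the direct product of a group of order two and an
extraspecial group of order 2^9, and contains its centraliser.
-/
import Cfsg.Agent.H5.Gq.Translate
import Cfsg.Agent.H30.SymplecticType
import Cfsg.Prelude.Def_Local

set_option autoImplicit false
set_option linter.unusedSectionVars false

namespace H5.Gq

open Matrix Cfsg H50 H5.TT H5.TT.Fac

variable {G : Type*} [Group G] {D : Set G} {F : Type*} [Field F] [Fintype F] {d₁ d₂ : G}
  (T : Duo D F d₁ d₂)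
include T

theorem Duo.sq₁ : d₁ * d₁ = 1 := H99.tt_mul_self T.tt T.mem₁

theorem Duo.sq₂ : d₂ * d₂ = 1 := H99.tt_mul_self T.tt T.mem₂.1

theorem Duo.prod_ne : d₁ * d₂ ≠ 1 := fun h => T.ne
  (inv_eq_of_mul_eq_one_right h ▸ H99.tt_inv T.tt T.mem₁)

theorem Duo.prod_sq : d₁ * d₂ * (d₁ * d₂) = 1 := by
  calc d₁ * d₂ * (d₁ * d₂) = d₁ * (d₂ * d₁) * d₂ := by group
    _ = (d₁ * d₁) * (d₂ * d₂) := by rw [← T.comm₁₂.eq]; group
    _ = 1 := by rw [T.sq₁, T.sq₂, one_mul]

theorem Duo.order_prod : orderOf (d₁ * d₂) = 2 :=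
  orderOf_eq_prime (by rw [pow_two]; exact T.prod_sq) T.prod_ne

theorem Duo.mem_span {g : G} :
    g ∈ Subgroup.closure ({d₁, d₂} : Set G) ↔ g = 1 ∨ g = d₁ ∨ g = d₂ ∨ g = d₁ * d₂ := by
  have h := T.comm₁₂
  constructor
  · intro hg
    induction hg using Subgroup.closure_induction with
    | mem x hx => rcases hx with rfl | rfl <;> simp
    | one => simp
    | mul a b _ _ ha hb =>
      have h12 : d₁ * (d₁ * d₂) = d₂ := by rw [← mul_assoc, T.sq₁, one_mul]
      have h21 : d₁ * d₂ * d₁ = d₂ := by rw [mul_assoc, ← h.eq, h12]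
      have h22 : d₁ * d₂ * d₂ = d₁ := by rw [mul_assoc, T.sq₂, mul_one]
      have h23 : d₂ * (d₁ * d₂) = d₁ := by rw [← mul_assoc, ← h.eq, h22]
      rcases ha with rfl | rfl | rfl | rfl <;> rcases hb with rfl | rfl | rfl | rfl <;>
        simp [T.sq₁, T.sq₂, h12, h21, h22, h23, h.symm.eq, T.prod_sq]
    | inv a _ ha =>
      rcases ha with rfl | rfl | rfl | rfl
      · simp
      · simp [H99.tt_inv T.tt T.mem₁]
      · simp [H99.tt_inv T.tt T.mem₂.1]
      · simp [inv_eq_of_mul_eq_one_right T.prod_sq]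
  · have h1 : d₁ ∈ Subgroup.closure ({d₁, d₂} : Set G) := Subgroup.subset_closure (by simp)
    have h2 : d₂ ∈ Subgroup.closure ({d₁, d₂} : Set G) := Subgroup.subset_closure (by simp)
    rintro (rfl | rfl | rfl | rfl)
    exacts [one_mem _, h1, h2, mul_mem h1 h2]

theorem Duo.card_span : Nat.card ↥(Subgroup.closure ({d₁, d₂} : Set G)) = 4 := by
  have hset : ((Subgroup.closure ({d₁, d₂} : Set G)) : Set G) = {1, d₁, d₂, d₁ * d₂} := by
    ext x; simpa using T.mem_span
  rw [← SetLike.coe_sort_coe, Nat.card_coe_set_eq, hset]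
  have n1 : d₁ ≠ 1 := fun h => by simpa [h] using T.set'.cls.1.1 d₁ T.mem₁
  have n2 : d₂ ≠ 1 := fun h => by simpa [h] using T.set'.cls.1.1 d₂ T.mem₂.1
  rw [Set.ncard_insert_of_notMem (by simp [Ne.symm n1, Ne.symm n2, Ne.symm T.prod_ne]),
    Set.ncard_insert_of_notMem (by simp [T.ne.symm, n2]),
    Set.ncard_insert_of_notMem (by simp [n1]), Set.ncard_singleton]

theorem Duo.span_le_ker : Subgroup.closure ({d₁, d₂} : Set G) ≤ T.ker :=
  (Subgroup.closure_le _).2 (by rintro x (rfl | rfl); exacts [T.d₁_mem_ker, T.d₂_mem_ker])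

theorem Duo.span_commute {g v : G} (hg : g ∈ T.ker)
    (hv : v ∈ Subgroup.closure ({d₁, d₂} : Set G)) : Commute g v := by
  obtain ⟨h1, h2⟩ := T.ker_commute hg
  rcases T.mem_span.1 hv with rfl | rfl | rfl | rfl
  exacts [Commute.one_right _, h1, h2, h1.mul_right h2]

/-- The functional of an element of the kernel. -/
noncomputable def Duo.al (g : T.ker) : Fin 4 → F := (T.kernel_form g.2).choose

theorem Duo.al_spec (g : T.ker) (i : Fin 45) (a : F) :
    (g : G) * T.X i a * (g : G)⁻¹ = T.X i (a + T.al g ⬝ᵥ P i) :=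
  (T.kernel_form g.2).choose_spec.1 i a

theorem Duo.al_eq (g : T.ker) {α : Fin 4 → F}
    (h : ∀ i, (g : G) * T.X i 0 * (g : G)⁻¹ = T.X i (α ⬝ᵥ P i)) : T.al g = α :=
  dot_inj T.hF fun i => by
    have := (T.X_inj ((T.al_spec g i 0).symm.trans (h i))).2
    rwa [zero_add] at this

theorem Duo.al_span (g : T.ker) : T.al g = 0 ↔ (g : G) ∈ Subgroup.closure ({d₁, d₂} : Set G) := by
  refine ⟨(T.kernel_form g.2).choose_spec.2, fun hg => T.al_eq g fun i => ?_⟩
  have hc : Commute (g : G) (T.X i 0) := by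
    rcases T.mem_span.1 hg with h | h | h | h <;> rw [h]
    exacts [Commute.one_left _, (T.commute_X_one i 0).symm, (T.commute_X_two i 0).symm,
      (T.commute_X_one i 0).symm.mul_left (T.commute_X_two i 0).symm]
  rw [hc.eq, mul_inv_cancel_right, zero_dotProduct]

/-- The functional as a homomorphism. -/
noncomputable def Duo.alHom : T.ker →* Multiplicative (Fin 4 → F) where
  toFun g := Multiplicative.ofAdd (T.al g)
  map_one' := congrArg Multiplicative.ofAdd (T.al_eq 1 (α := 0) fun i => by simp)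
  map_mul' g h := congrArg Multiplicative.ofAdd (T.al_eq (g * h) fun i => by
    rw [Subgroup.coe_mul, show (g : G) * h * T.X i 0 * ((g : G) * h)⁻¹ =
      g * (h * T.X i 0 * (h : G)⁻¹) * (g : G)⁻¹ by group, T.al_spec, T.al_spec, add_dotProduct,
      zero_add, add_comm]
    rfl)

theorem Duo.al_pair (j : Fin 45) (a b : F) :
    T.al ⟨_, T.pair_mem_ker j a b⟩ = fun k => (a + b) * P (F := F) j k ^ 2 :=
  T.al_eq _ fun i => by
    show T.X j a * T.X j b * T.X i 0 * (T.X j a * T.X j b)⁻¹ = _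
    rw [T.conj_same, zero_add]
    congr 1
    simp only [herm_four, dotProduct, Fin.sum_univ_four]
    ring

/-- The subgroup generated by the two transpositions and the pairs in the classes. -/
def Duo.pairGen : Subgroup G :=
  Subgroup.closure ({d₁, d₂} ∪ {x | ∃ j a b, a ≠ b ∧ x = T.X j a * T.X j b})

theorem Duo.pairGen_le : T.pairGen ≤ T.ker :=
  (Subgroup.closure_le _).2 (by
    rintro x (hx | ⟨j, a, b, -, rfl⟩)
    · exact T.span_le_ker (Subgroup.subset_closure hx)
    · exact T.pair_mem_ker j a b)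

theorem Duo.al_surj (α : Fin 4 → F) : ∃ g : T.ker, (g : G) ∈ T.pairGen ∧ T.al g = α := by
  obtain ⟨p15, p25, -, p0, p1, -⟩ := pt_six
  have hs := om_sq T.hF
  have h2 := U2.add_self T.hF (1 : F)
  have hom0 : (om : F) ≠ 0 := (T.five_elts.2.1).symm
  have hgen : ∀ (j : Fin 45) (c : F), ∃ g : T.ker, (g : G) ∈ T.pairGen ∧
      T.al g = fun k => c * P (F := F) j k ^ 2 := by
    intro j c
    rcases eq_or_ne c 0 with rfl | hc
    · exact ⟨1, one_mem _, T.al_eq 1 fun i => by simp [dotProduct]⟩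
    · refine ⟨⟨_, T.pair_mem_ker j 0 c⟩, Subgroup.subset_closure (Or.inr ⟨j, 0, c, hc.symm, rfl⟩), ?_⟩
      rw [T.al_pair, zero_add]
  set x25 := (α 0 + α 1) / om with hx25
  set x1 := (α 2 + α 3) / om with hx1
  obtain ⟨g₁, hg₁, e₁⟩ := hgen 15 (α 0 + x25)
  obtain ⟨g₂, hg₂, e₂⟩ := hgen 25 x25
  obtain ⟨g₃, hg₃, e₃⟩ := hgen 0 (α 2 + x1)
  obtain ⟨g₄, hg₄, e₄⟩ := hgen 1 x1
  refine ⟨g₁ * g₂ * g₃ * g₄, mul_mem (mul_mem (mul_mem hg₁ hg₂) hg₃) hg₄, ?_⟩
  have := congrArg Multiplicative.toAdd ((map_mul T.alHom (g₁ * g₂ * g₃) g₄).trans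
    (by rw [map_mul, map_mul]))
  change T.al (g₁ * g₂ * g₃ * g₄) = T.al g₁ + T.al g₂ + T.al g₃ + T.al g₄ at this
  rw [this, e₁, e₂, e₃, e₄]
  have hx : ∀ x : F, x / om * (1 + om * om) = x := fun x => by
    rw [hs, show (1 : F) + (om + 1) = om by linear_combination h2, div_mul_cancel₀ _ hom0]
  funext k
  simp only [Pi.add_apply, P, p15, p25, p0, p1]
  have hd : ∀ x : F, x + x = 0 := U2.add_self T.hF
  fin_cases k <;> simp [emb]
  · rw [add_assoc, hd, add_zero]
  · have := hx (α 0 + α 1)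
    have := hd (α 0)
    grind
  · rw [add_assoc, hd, add_zero]
  · have := hx (α 2 + α 3)
    have := hd (α 2)
    grind

theorem Duo.ker_le_pairGen : T.ker ≤ T.pairGen := by
  intro g hg
  obtain ⟨m, hm, hal⟩ := T.al_surj (T.al ⟨g, hg⟩)
  have h0 : T.alHom (m⁻¹ * ⟨g, hg⟩) = 1 := by
    rw [map_mul, map_inv, inv_mul_eq_one]
    exact congrArg Multiplicative.ofAdd hal
  have := (T.al_span _).1 (congrArg Multiplicative.toAdd h0)
  have h1 : (m⁻¹ * ⟨g, hg⟩ : T.ker).1 ∈ T.pairGen := Subgroup.closure_mono Set.subset_union_left this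
  have := mul_mem hm h1
  rwa [Subgroup.coe_mul, Subgroup.coe_inv, mul_inv_cancel_left] at this

theorem Duo.card_ker : Nat.card T.ker = 1024 := by
  have hsurj : Function.Surjective T.alHom := fun α => by
    obtain ⟨g, -, hg⟩ := T.al_surj α.toAdd
    exact ⟨g, congrArg Multiplicative.ofAdd hg⟩
  have hk : Nat.card T.alHom.ker = 4 := by
    refine Eq.trans (Nat.card_congr (β := Subgroup.closure ({d₁, d₂} : Set G))
      { toFun := fun g => ⟨g.1.1, (T.al_span g.1).1 (congrArg Multiplicative.toAdd g.2)⟩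
        invFun := fun v => ⟨⟨v.1, T.span_le_ker v.2⟩,
          congrArg Multiplicative.ofAdd ((T.al_span ⟨v.1, _⟩).2 v.2)⟩
        left_inv := fun g => rfl
        right_inv := fun v => rfl }) T.card_span
  rw [Subgroup.card_eq_card_quotient_mul_card_subgroup T.alHom.ker, hk,
    Nat.card_congr (QuotientGroup.quotientKerEquivOfSurjective _ hsurj).toEquiv,
    Nat.card_congr Multiplicative.toAdd, Nat.card_eq_fintype_card, Fintype.card_fun, T.hF]
  norm_num

theorem Duo.prod_four (i : Fin 45) {a b c e : F} (h : [a, b, c, e].Nodup) :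
    T.X i a * T.X i b * (T.X i c * T.X i e) = d₁ * d₂ := by
  classical
  obtain ⟨n01, n02, n03, n12, n13, n23⟩ := T.five_elts
  have hperm : List.Perm [a, b, c, e] [0, 1, om, om + 1] := by
    refine List.perm_of_nodup_nodup_toFinset_eq h (by simp [n01, n02, n03, n12, n13, n23]) ?_
    rw [(Finset.eq_univ_of_card _ ?_ : [a, b, c, e].toFinset = Finset.univ),
      (Finset.eq_univ_of_card _ ?_ : [(0 : F), 1, om, om + 1].toFinset = Finset.univ)]
    · rw [List.card_toFinset, List.Nodup.dedup (by simp [n01, n02, n03, n12, n13, n23]), T.hF]; rfl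
    · rw [List.card_toFinset, h.dedup, T.hF]; rfl
  have := (hperm.map (T.X i)).prod_eq' (List.pairwise_of_forall_mem_list fun x hx y hy => by
    obtain ⟨u, -, rfl⟩ := List.mem_map.1 hx
    obtain ⟨w, -, rfl⟩ := List.mem_map.1 hy
    exact (T.commute_X i i u w).2 (Or.inl rfl))
  simp only [List.map_cons, List.map_nil, List.prod_cons, List.prod_nil, mul_one] at this
  rw [mul_assoc, this, ← T.hexad i]
  group

theorem Duo.comm_pair {g : G} (hg : g ∈ T.ker) (j : Fin 45) (a b : F) :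
    g * (T.X j a * T.X j b) * g⁻¹ * (T.X j a * T.X j b)⁻¹ ∈ Subgroup.zpowers (d₁ * d₂) := by
  set δ := T.al ⟨g, hg⟩ ⬝ᵥ P j with hδ
  have hc : ∀ u w : F, Commute (T.X j u) (T.X j w) := fun u w => (T.commute_X j j u w).2 (Or.inl rfl)
  have hi : ∀ u, (T.X j u)⁻¹ = T.X j u := fun u => H99.tt_inv T.tt (T.X_mem j u)
  rw [show g * (T.X j a * T.X j b) * g⁻¹ * (T.X j a * T.X j b)⁻¹ =
    (g * T.X j a * g⁻¹) * (g * T.X j b * g⁻¹) * (T.X j a * T.X j b)⁻¹ by group,
    T.al_spec ⟨g, hg⟩, T.al_spec ⟨g, hg⟩, _root_.mul_inv_rev, hi, hi, ← (hc a b).eq]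
  rcases eq_or_ne δ 0 with h0 | h0
  · rw [← hδ, h0, add_zero, add_zero]
    have : T.X j a * T.X j b * (T.X j a * T.X j b) = 1 := by
      nth_rw 2 [(hc a b).eq]
      rw [mul_assoc, ← mul_assoc (T.X j b), H99.tt_mul_self T.tt (T.X_mem j b), one_mul,
        H99.tt_mul_self T.tt (T.X_mem j a)]
    rw [this]; exact one_mem _
  rcases eq_or_ne a b with rfl | hab
  · rw [← hδ, H99.tt_mul_self T.tt (T.X_mem j _), H99.tt_mul_self T.tt (T.X_mem j _), one_mul]
    exact one_mem _
  have h2 : ∀ x : F, x + x = 0 := U2.add_self T.hF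
  rcases eq_or_ne δ (a + b) with h1 | h1
  · rw [← hδ, h1, show a + (a + b) = b by rw [← add_assoc, h2, zero_add],
      show b + (a + b) = a by rw [add_comm a b, ← add_assoc, h2, zero_add]]
    have : T.X j b * T.X j a * (T.X j a * T.X j b) = 1 := by
      rw [mul_assoc, ← mul_assoc (T.X j a), H99.tt_mul_self T.tt (T.X_mem j a), one_mul,
        H99.tt_mul_self T.tt (T.X_mem j b)]
    rw [this]; exact one_mem _
  · rw [← hδ, T.prod_four j]
    · exact Subgroup.mem_zpowers _
    · simp only [List.nodup_cons, List.mem_cons, List.not_mem_nil, or_false, not_or,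
        List.nodup_nil, and_true, not_false_iff]
      refine ⟨⟨fun h => hab (add_right_cancel h), fun h => h0 ?_, fun h => h1 ?_⟩,
        ⟨fun h => h1 ?_, fun h => h0 ?_⟩, hab⟩
      all_goals
        have := h2 a
        have := h2 b
        grind

theorem Duo.comm_mem {g h : G} (hg : g ∈ T.ker) (hh : h ∈ T.ker) :
    g * h * g⁻¹ * h⁻¹ ∈ Subgroup.zpowers (d₁ * d₂) := by
  have hcent : ∀ {z : G}, z ∈ Subgroup.zpowers (d₁ * d₂) → ∀ {k : G}, k ∈ T.ker → Commute k z :=
    fun hz k hk => T.span_commute hk (Subgroup.zpowers_le.2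
      (T.mem_span.2 (Or.inr (Or.inr (Or.inr rfl)))) hz)
  have h' := T.ker_le_pairGen hh
  induction h' using Subgroup.closure_induction with
  | mem x hx =>
    rcases hx with hx | ⟨j, a, b, -, rfl⟩
    · rw [(T.span_commute hg (Subgroup.subset_closure hx)).eq, mul_inv_cancel_right, mul_inv_cancel]
      exact one_mem _
    · exact T.comm_pair hg j a b
  | one => simp
  | mul a b ha hb iha ihb =>
    have ha' := T.pairGen_le ha
    have hb' := T.pairGen_le hb
    have e : g * (a * b) * g⁻¹ * (a * b)⁻¹ =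
        (g * a * g⁻¹ * a⁻¹) * (a * (g * b * g⁻¹ * b⁻¹) * a⁻¹) := by group
    rw [e, (hcent (ihb hb') ha').eq, mul_inv_cancel_right]
    exact mul_mem (iha ha') (ihb hb')
  | inv a ha iha =>
    have ha' := T.pairGen_le ha
    have e : g * a⁻¹ * g⁻¹ * a⁻¹⁻¹ = a⁻¹ * (g * a * g⁻¹ * a⁻¹)⁻¹ * a⁻¹⁻¹ := by group
    rw [e, (hcent (inv_mem (iha ha')) (inv_mem ha')).eq, mul_inv_cancel_right]
    exact inv_mem (iha ha')

theorem Duo.sq_mem {g : G} (hg : g ∈ T.ker) : g ^ 2 ∈ Subgroup.zpowers (d₁ * d₂) := by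
  have h' := T.ker_le_pairGen hg
  induction h' using Subgroup.closure_induction with
  | mem x hx =>
    rcases hx with hx | ⟨j, a, b, -, rfl⟩
    · rcases hx with rfl | rfl <;> rw [pow_two]
      · rw [T.sq₁]; exact one_mem _
      · rw [T.sq₂]; exact one_mem _
    · rw [pow_two]
      have : T.X j a * T.X j b * (T.X j a * T.X j b) = 1 := by
        nth_rw 2 [show Commute (T.X j a) (T.X j b) from (T.commute_X j j a b).2 (Or.inl rfl)]
        rw [mul_assoc, ← mul_assoc (T.X j b), H99.tt_mul_self T.tt (T.X_mem j b), one_mul,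
          H99.tt_mul_self T.tt (T.X_mem j a)]
      rw [this]; exact one_mem _
  | one => simp
  | mul a b ha hb iha ihb =>
    have ha' := T.pairGen_le ha
    have hb' := T.pairGen_le hb
    have hz := T.comm_mem hb' ha'
    have hc : Commute a (b * a * b⁻¹ * a⁻¹) := T.span_commute ha' (Subgroup.zpowers_le.2
      (T.mem_span.2 (Or.inr (Or.inr (Or.inr rfl)))) hz)
    rw [show (a * b) ^ 2 = a * (b * a * b⁻¹ * a⁻¹) * a * b ^ 2 by rw [pow_two, pow_two]; group,
      hc.eq, mul_assoc (b * a * b⁻¹ * a⁻¹), ← pow_two]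
    exact mul_mem (mul_mem hz (iha ha')) (ihb hb')
  | inv a ha iha =>
    rw [inv_pow]
    exact inv_mem (iha (T.pairGen_le ha))

theorem Duo.centralizer_ker {g : G} (hg : g ∈ T.cen) (hc : ∀ h ∈ T.ker, Commute g h) :
    g ∈ Subgroup.closure ({d₁, d₂} : Set G) := by
  obtain ⟨n01, n02, -, n12, -⟩ := T.five_elts
  have hpair : ∀ i a b, a ≠ b → (g * T.X i a * g⁻¹ = T.X i a ∧ g * T.X i b * g⁻¹ = T.X i b) ∨
      (g * T.X i a * g⁻¹ = T.X i b ∧ g * T.X i b * g⁻¹ = T.X i a) := by
    intro i a b hne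
    have hne' : T.X i a ≠ T.X i b := fun e => hne (T.X_inj e).2
    have hcab : Commute (T.X i a) (T.X i b) := (T.commute_X _ _ _ _).2 (Or.inl rfl)
    have hp : T.X i a * T.X i b = (g * T.X i a * g⁻¹) * (g * T.X i b * g⁻¹) := by
      rw [show g * T.X i a * g⁻¹ * (g * T.X i b * g⁻¹) = g * (T.X i a * T.X i b) * g⁻¹ by group,
        (hc _ (T.pair_mem_ker i a b)).eq, mul_inv_cancel_right]
    exact pair_unique T.tt T.set'.twin (T.X_mem i a) (T.X_mem i b) (T.conjD g (T.X_mem i a))
      (T.conjD g (T.X_mem i b)) hne' (fun e => hne' (mul_left_cancel (mul_right_cancel e))) hcab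
      ((H99.conj_commute_iff g _ _).2 hcab) hp
  have hfix : ∀ i, g * T.X i 0 * g⁻¹ = T.X i 0 := fun i => by
    rcases hpair i 0 1 n01 with h | h
    · exact h.1
    rcases hpair i 0 om n02 with h' | h'
    · exact h'.1
    exact absurd (T.X_inj (h.1.symm.trans h'.1)).2 n12
  have hker : g ∈ T.ker := by
    refine T.mem_ker.2 ⟨hg, fun i a => ?_⟩
    rcases eq_or_ne a 0 with rfl | ha
    · exact ⟨0, hfix i⟩
    · rcases hpair i 0 a ha.symm with h | h
      · exact ⟨_, h.2⟩
      · exact ⟨_, h.2⟩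
  refine (T.al_span ⟨g, hker⟩).1 (T.al_eq _ fun i => ?_)
  rw [zero_dotProduct]
  exact hfix i

/-- The kernel is the direct product of a group of order two and an extraspecial group. -/
theorem Duo.ker_split [Finite G] :
    ∃ E : Subgroup T.ker, IsExtraspecial 2 E ∧ Nat.card E = 2 ^ 9 ∧
      Nonempty (↥T.ker ≃* Multiplicative (ZMod 2) × E) := by
  classical
  set z : T.ker := ⟨d₁ * d₂, mul_mem T.d₁_mem_ker T.d₂_mem_ker⟩ with hz
  set s : T.ker := ⟨d₁, T.d₁_mem_ker⟩ with hs
  have hzp : ∀ x : T.ker, (x : G) ∈ Subgroup.zpowers (d₁ * d₂) → x ∈ Subgroup.zpowers z := by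
    intro x hx
    obtain ⟨k, hk⟩ := Subgroup.mem_zpowers_iff.1 hx
    exact Subgroup.mem_zpowers_iff.2 ⟨k, Subtype.ext (by rw [Subgroup.coe_zpow]; exact hk)⟩
  have hcen : ∀ x : T.ker, Commute s x := fun x => Subtype.ext (T.ker_commute x.2).1.eq.symm
  have hzc : ∀ x : T.ker, Commute z x := fun x => Subtype.ext
    ((T.ker_commute x.2).1.symm.mul_left (T.ker_commute x.2).2.symm).eq
  have hord : orderOf z = 2 := (Subgroup.orderOf_coe z).symm.trans T.order_prod
  have hsz : s ∉ Subgroup.zpowers z := by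
    intro hmem
    have hmem' : (s : G) ∈ Subgroup.zpowers (d₁ * d₂) := by
      obtain ⟨k, hk⟩ := Subgroup.mem_zpowers_iff.1 hmem
      exact Subgroup.mem_zpowers_iff.2 ⟨k, by rw [← hk, Subgroup.coe_zpow]⟩
    obtain ⟨k, hk⟩ := Subgroup.mem_zpowers_iff.1 hmem'
    rcases Int.even_or_odd' k with ⟨m, rfl | rfl⟩
    · rw [_root_.zpow_mul, zpow_two, T.prod_sq, _root_.one_zpow] at hk
      exact (by simpa [show d₁ = 1 from hk.symm] using T.set'.cls.1.1 d₁ T.mem₁)
    · rw [_root_.zpow_add, _root_.zpow_mul, zpow_two, T.prod_sq, _root_.one_zpow, one_mul, zpow_one] at hk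
      have : d₂ = 1 := mul_left_cancel (hk.trans (mul_one d₁).symm)
      simpa [this] using T.set'.cls.1.1 d₂ T.mem₂.1
  obtain ⟨E, hE, hmax⟩ := (Set.toFinite {L : Subgroup T.ker | Subgroup.zpowers z ≤ L ∧ s ∉ L}).exists_maximal
    ⟨Subgroup.zpowers z, le_rfl, hsz⟩
  have hzE : z ∈ E := hE.1 (Subgroup.mem_zpowers z)
  have hsE : s ∉ E := hE.2
  have hEn : E.Normal := ⟨fun x hx g => by
    have h1 : g * x * g⁻¹ * x⁻¹ ∈ E := hE.1 (hzp _ (T.comm_mem g.2 x.2))
    simpa using E.mul_mem h1 hx⟩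
  have hsplit : ∀ g : T.ker, g ∈ E ∨ s * g ∈ E := by
    intro g
    by_contra hno
    push Not at hno
    have hs' : s ∈ E ⊔ Subgroup.zpowers g := by
      by_contra h
      have : E ⊔ Subgroup.zpowers g ≤ E := hmax ⟨hE.1.trans le_sup_left, h⟩ le_sup_left
      exact hno.1 (this (Subgroup.mem_sup_right (Subgroup.mem_zpowers g)))
    obtain ⟨m, hm, w, hw, hmw⟩ := Subgroup.mem_sup_of_normal_left.mp hs'
    obtain ⟨k, rfl⟩ := Subgroup.mem_zpowers_iff.mp hw
    have hg2 : g ^ (2 : ℤ) ∈ E := hE.1 (hzp _ (by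
      rw [Subgroup.coe_zpow, show ((g : G)) ^ (2 : ℤ) = (g : G) ^ 2 by norm_cast]
      exact T.sq_mem g.2))
    rcases Int.even_or_odd' k with ⟨n, rfl | rfl⟩
    · exact hsE (hmw ▸ mul_mem hm (_root_.zpow_mul g 2 n ▸ zpow_mem hg2 n))
    · refine hno.2 ?_
      rw [(hcen g).eq, ← hmw, _root_.zpow_add, zpow_one, _root_.zpow_mul]
      have hgmg : g * (m * (g ^ (2 : ℤ)) ^ n) * g⁻¹ ∈ E :=
        hEn.conj_mem _ (mul_mem hm (zpow_mem hg2 n)) g
      rw [show g * (m * ((g ^ (2 : ℤ)) ^ n * g)) =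
        (g * (m * (g ^ (2 : ℤ)) ^ n) * g⁻¹) * (g * g) by group]
      exact mul_mem hgmg (by rw [← zpow_two]; exact hg2)
  let f : Multiplicative (ZMod 2) × E →* T.ker :=
    { toFun := fun p => (if p.1 = 1 then 1 else s) * p.2
      map_one' := by simp
      map_mul' := fun p q => by
        have hss : s * s = 1 := Subtype.ext T.sq₁
        have hor : ∀ u : Multiplicative (ZMod 2), u = 1 ∨ u = Multiplicative.ofAdd 1 := by decide
        have hne : (Multiplicative.ofAdd 1 : Multiplicative (ZMod 2)) ≠ 1 := by decide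
        have hmul : (Multiplicative.ofAdd 1 : Multiplicative (ZMod 2)) * Multiplicative.ofAdd 1 = 1 := by
          decide
        obtain ⟨p, x⟩ := p
        obtain ⟨q, y⟩ := q
        rcases hor p with rfl | rfl <;> rcases hor q with rfl | rfl <;>
          simp only [Prod.fst_mul, Prod.snd_mul, Subgroup.coe_mul, one_mul, mul_one, hne, hmul,
            if_true, if_false]
        · rw [← mul_assoc, ← mul_assoc, (hcen _).eq]
        · group
        · rw [mul_assoc s, ← mul_assoc (x : T.ker) s, ← (hcen _).eq, mul_assoc s, ← mul_assoc s s, hss,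
            one_mul] }
  have hbij : Function.Bijective f := by
    have hor : ∀ u : Multiplicative (ZMod 2), u = 1 ∨ u = Multiplicative.ofAdd 1 := by decide
    have hne : (Multiplicative.ofAdd 1 : Multiplicative (ZMod 2)) ≠ 1 := by decide
    constructor
    · rw [injective_iff_map_eq_one]
      rintro ⟨p, x⟩ hp
      rcases hor p with rfl | rfl
      · simp only [f, MonoidHom.coe_mk, OneHom.coe_mk, if_true, one_mul] at hp
        exact Prod.ext rfl (Subtype.ext hp)
      · simp only [f, MonoidHom.coe_mk, OneHom.coe_mk, hne, if_false] at hp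
        exact absurd (eq_inv_of_mul_eq_one_left hp ▸ E.inv_mem x.2) hsE
    · intro g
      rcases hsplit g with h | h
      · exact ⟨(1, ⟨g, h⟩), by simp [f]⟩
      · refine ⟨(Multiplicative.ofAdd 1, ⟨s * g, h⟩), ?_⟩
        simp only [f, MonoidHom.coe_mk, OneHom.coe_mk, hne, if_false]
        rw [← mul_assoc, show s * s = 1 from Subtype.ext T.sq₁, one_mul]
  let e := (MulEquiv.ofBijective f hbij).symm
  have hcard : Nat.card E = 2 ^ 9 := by
    have := (Nat.card_congr e.toEquiv).symm.trans T.card_ker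
    rw [Nat.card_prod, show Nat.card (Multiplicative (ZMod 2)) = 2 from
      (Nat.card_congr Multiplicative.toAdd).trans (Nat.card_zmod 2)] at this
    omega
  haveI : Fact (Nat.Prime 2) := ⟨Nat.prime_two⟩
  have hP : IsPGroup 2 T.ker := IsPGroup.of_card (n := 10) (by rw [T.card_ker]; norm_num)
  refine ⟨E, H30.isExtraspecial_subgroup hP hord hzE
    (Subgroup.mem_centralizer_iff.2 fun x _ => (hzc x).eq.symm) ?_
    (fun a _ b _ => hzp _ (T.comm_mem a.2 b.2)) (fun a _ => hzp _ (T.sq_mem a.2)) ?_, hcard, ⟨e⟩⟩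
  · rintro x ⟨hxE, hxC⟩
    have hall : ∀ h ∈ T.ker, Commute (x : G) h := by
      intro h hh
      rcases hsplit ⟨h, hh⟩ with h' | h'
      · exact (congrArg Subtype.val (Subgroup.mem_centralizer_iff.1 hxC _ h')).symm
      · have := (Subgroup.mem_centralizer_iff.1 hxC _ h').symm
        have h3 : x * ⟨h, hh⟩ = ⟨h, hh⟩ * x := by
          rw [← mul_assoc, ← (hcen x).eq, mul_assoc, mul_assoc] at this
          exact mul_left_cancel this
        exact congrArg Subtype.val h3
    rcases T.mem_span.1 (T.centralizer_ker (T.mem_ker.1 x.2).1 hall) with h | h | h | h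
    · rw [show x = 1 from Subtype.ext h]; exact one_mem _
    · exact absurd (show x = s from Subtype.ext h) (fun e => hsE (e ▸ hxE))
    · refine absurd ?_ hsE
      have : s = z * x := Subtype.ext (show d₁ = d₁ * d₂ * (x : G) by
        rw [h, mul_assoc, T.sq₂, mul_one])
      rw [this]
      exact mul_mem hzE hxE
    · rw [show x = z from Subtype.ext h]; exact Subgroup.mem_zpowers z
  · intro hle
    have := Subgroup.card_le_of_le hle
    rw [hcard, Nat.card_zpowers, hord] at this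
    norm_num at this

end H5.Gq
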