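/-
The centraliser of the product of two commuting transpositions in a group of type M(22): orders, the
quotient by the kernel, and the generalised Fitting subgroup.
-/
import Cfsg.Agent.H5.Gq.Structure
import Cfsg.Agent.CompLayer
import Cfsg.Agent.S0288

set_option autoImplicit false
set_option linter.unusedSectionVars false

namespace H5.Gq

open Matrix Cfsg H50 H5.TT H5.TT.Fac

/-- A two-group containing its centraliser and every normal two-subgroup is the generalised Fitting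
subgroup. -/
theorem fStar_eq {H : Type*} [Group H] [Finite H] {N : Subgroup H} (hN : N.Normal)
    (h2 : IsPGroup 2 N) (hc : Subgroup.centralizer (N : Set H) ≤ N)
    (hmax : ∀ M : Subgroup H, M.Normal → IsPGroup 2 M → M ≤ N) :
    generalizedFittingSubgroup H = N := by
  have : Fact (Nat.Prime 2) := ⟨Nat.prime_two⟩
  have hnil : Group.IsNilpotent N := h2.isNilpotent
  have hNF : N ≤ fittingSubgroup H := Cfsg.Comp.le_fittingSubgroup hN hnil
  refine le_antisymm (sup_le ?_ ?_) (hNF.trans le_sup_right)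
  · refine sSup_le fun L hL => ?_
    have hLc : L ≤ Subgroup.centralizer (N : Set H) := by
      have hcomm := (Subgroup.commutator_eq_bot_iff_le_centralizer).1
        (Cfsg.Comp.commutator_component_fitting hL)
      exact hcomm.trans (Subgroup.centralizer_le hNF)
    exfalso
    refine Cfsg.Comp.isComponent_not_isSolvable hL ?_
    have hLN : L ≤ N := hLc.trans hc
    haveI : Group.IsNilpotent L := (h2.to_le hLN).isNilpotent
    infer_instance
  · rw [Cfsg.Comp.fitting_eq_iSup_pCore]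
    refine iSup_le fun p => ?_
    have : Fact (Nat.Prime (p : ℕ)) := ⟨p.2⟩
    have hq : IsPGroup (p : ℕ) ↥(pCore (p : ℕ) H) := Cfsg.Comp.pCore_isPGroup (p : ℕ)
    have hn : (pCore (p : ℕ) H).Normal := Cfsg.pCore_normal (p : ℕ) H
    by_cases hp2 : (p : ℕ) = 2
    · refine hmax _ hn ?_
      rw [hp2] at hq ⊢
      exact hq
    · refine le_trans (fun x hx => Subgroup.mem_centralizer_iff.2 fun y hy => ?_) hc
      exact Subgroup.commute_of_normal_of_disjoint N (pCore (p : ℕ) H) hN hn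
        (IsPGroup.disjoint_of_ne 2 (p : ℕ) (Ne.symm hp2) _ _ h2 hq) y x hy hx

/-- Extraspecial groups are closed under isomorphism (as in `H36.HJ.isExtraspecial_congr`, restated
here to avoid the long import). -/
theorem extraspecial_congr {P P' : Type*} [Group P] [Group P'] {p : ℕ} (e : P ≃* P')
    (hP : Cfsg.IsExtraspecial p P) : Cfsg.IsExtraspecial p P' := by
  obtain ⟨⟨hp, hfr, hcm⟩, hz⟩ := hP
  have hc : (Subgroup.center P).map (e : P →* P') = Subgroup.center P' := by
    ext b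
    simp only [Subgroup.mem_map, Subgroup.mem_center_iff, MonoidHom.coe_coe]
    constructor
    · rintro ⟨a, ha, rfl⟩ g
      obtain ⟨g', rfl⟩ := e.surjective g
      rw [← map_mul, ← map_mul, ha g']
    · intro hb
      obtain ⟨a, rfl⟩ := e.surjective b
      exact ⟨a, fun g => e.injective (by rw [map_mul, map_mul, hb]), rfl⟩
  refine ⟨⟨hp.of_equiv e, ?_, ?_⟩, ?_⟩
  · rw [← hc, ← hfr]
    refine le_antisymm (fun b hb => ?_) ?_
    · exact ⟨e.symm b,
        frattini_le_comap_frattini_of_surjective (φ := (e.symm : P' →* P)) e.symm.surjective hb, by simp⟩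
    · exact Subgroup.map_le_iff_le_comap.mpr (frattini_le_comap_frattini_of_surjective e.surjective)
  · rw [← hc, ← hcm, commutator_def, commutator_def, Subgroup.map_commutator,
      Subgroup.map_top_of_surjective _ e.surjective]
  · rw [← hc, ← hz]
    exact (Nat.card_congr ((Subgroup.center P).equivMapOfInjective _ e.injective).toEquiv).symm

section orbit

variable {G : Type*} [Group G]

/-- Orbit and stabiliser for conjugation by a subgroup. -/
theorem card_conj_orbit [Finite G] (H : Subgroup G) (x : G) (S : Set G)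
    (h1 : ∀ h ∈ H, h * x * h⁻¹ ∈ S) (h2 : ∀ y ∈ S, ∃ h ∈ H, h * x * h⁻¹ = y) :
    Nat.card H = S.ncard * Nat.card ↥(H ⊓ Subgroup.centralizer ({x} : Set G)) := by
  set K := (Subgroup.centralizer ({x} : Set G)).subgroupOf H with hK
  have hfib : ∀ a b : H, QuotientGroup.leftRel K a b ↔
      (a : G) * x * (a : G)⁻¹ = (b : G) * x * (b : G)⁻¹ := by
    intro a b
    rw [QuotientGroup.leftRel_apply, hK, Subgroup.mem_subgroupOf,
      Subgroup.mem_centralizer_singleton_iff, Subgroup.coe_mul, Subgroup.coe_inv]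
    constructor
    · intro h
      calc (a : G) * x * (a : G)⁻¹ = (a : G) * (x * ((a : G)⁻¹ * b)) * (b : G)⁻¹ := by group
        _ = (a : G) * ((a : G)⁻¹ * b * x) * (b : G)⁻¹ := by rw [h]
        _ = (b : G) * x * (b : G)⁻¹ := by group
    · intro h
      calc (a : G)⁻¹ * b * x = (a : G)⁻¹ * ((b : G) * x * (b : G)⁻¹) * b := by group
        _ = (a : G)⁻¹ * ((a : G) * x * (a : G)⁻¹) * b := by rw [h]
        _ = x * ((a : G)⁻¹ * b) := by group
  let f : ↥H ⧸ K → S := Quotient.lift (fun a : H => (⟨_, h1 a a.2⟩ : S))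
    fun a b hab => Subtype.ext ((hfib a b).1 hab)
  have hf : Function.Bijective f := by
    constructor
    · intro u v
      induction u using Quotient.ind
      induction v using Quotient.ind
      intro h
      exact Quotient.sound ((hfib _ _).2 (congrArg Subtype.val h))
    · rintro ⟨y, hy⟩
      obtain ⟨h, hh, rfl⟩ := h2 y hy
      exact ⟨Quotient.mk _ ⟨h, hh⟩, rfl⟩
  rw [Subgroup.card_eq_card_quotient_mul_card_subgroup K, Nat.card_eq_of_bijective f hf,
    Nat.card_coe_set_eq]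
  congr 1
  exact Nat.card_congr
    { toFun := fun g => ⟨g.1.1, g.1.2, Subgroup.mem_subgroupOf.1 g.2⟩
      invFun := fun g => ⟨⟨g.1, g.2.1⟩, Subgroup.mem_subgroupOf.2 g.2.2⟩
      left_inv := fun g => rfl
      right_inv := fun g => rfl }

end orbit

variable {G : Type*} [Group G] {D : Set G} {F : Type*} [Field F] [Fintype F]

theorem Setup.exists_duo (S : Setup D F) {d₁ d₂ : G} (h₁ : d₁ ∈ D) (h₂ : d₂ ∈ D) (hne : d₁ ≠ d₂)
    (hc : Commute d₁ d₂) : Nonempty (Duo D F d₁ d₂) := by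
  obtain ⟨U, hU⟩ := S.coo d₁ h₁ d₂ ⟨h₂, hne.symm, hc⟩
  exact ⟨⟨S, h₁, ⟨h₂, hne.symm, hc⟩, U, hU⟩⟩

theorem Setup.perp_trans (S : Setup D F) {s x y : G} (hs : s ∈ D) (hx : x ∈ H99.perp D s)
    (hy : y ∈ H99.perp D s) : ∃ g, Commute g s ∧ g * x * g⁻¹ = y := by
  have hF := S.field
  have hT := S.cls.1
  have hbase : ∀ {a b : G}, a ∈ H99.perp D s → b ∈ H99.perp D s → ¬ Commute a b →
      ∃ g, Commute g s ∧ g * a * g⁻¹ = b := by
    intro a b ha hb hab
    refine ⟨a * b, ha.2.2.symm.mul_left hb.2.2.symm, ?_⟩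
    have hbr := H99.tt_braid hT ha.1 hb.1 hab
    rw [_root_.mul_inv_rev, H99.tt_inv hT ha.1, H99.tt_inv hT hb.1,
      show a * b * a * (b * a) = a * b * a * b * a by group, hbr,
      show b * a * b * b * a = b * a * (b * b) * a by group, H99.tt_mul_self hT hb.1, mul_one,
      mul_assoc, H99.tt_mul_self hT ha.1, mul_one]
  by_cases hxy : Commute x y
  swap
  · exact hbase hx hy hxy
  obtain ⟨U, -⟩ := S.coo s hs x hx
  obtain ⟨v, hv⟩ := U.ex hx
  obtain ⟨u, hu⟩ := U.ex hy
  obtain ⟨f, hf⟩ := exists_hyp_partner hF (U.vec hv).1 (U.vec hv).2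
  obtain ⟨g, hg⟩ := exists_hyp_partner hF (U.vec hu).1 (U.vec hu).2
  have hvf : hermForm 6 F 2 f v ≠ 0 := by rw [(hf.symm hF).2.2]; exact one_ne_zero
  have hug : hermForm 6 F 2 g u ≠ 0 := by rw [(hg.symm hF).2.2]; exact one_ne_zero
  have hff : hermForm 6 F 2 f f = 0 := hf.2.1
  have hgg : hermForm 6 F 2 g g = 0 := hg.2.1
  obtain ⟨w, hw, hwv, hwu⟩ : ∃ w, hermForm 6 F 2 w w = 0 ∧ hermForm 6 F 2 w v ≠ 0 ∧
      hermForm 6 F 2 w u ≠ 0 := by
    by_cases h1 : hermForm 6 F 2 f u = 0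
    swap
    · exact ⟨f, hff, hvf, h1⟩
    by_cases h2 : hermForm 6 F 2 g v = 0
    swap
    · exact ⟨g, hgg, h2, hug⟩
    obtain ⟨c, hc0, hc⟩ : ∃ c : F, c ≠ 0 ∧ c * hermForm 6 F 2 f g +
        (c * hermForm 6 F 2 f g) ^ 2 = 0 := by
      rcases eq_or_ne (hermForm 6 F 2 f g) 0 with h0 | h0
      · exact ⟨1, one_ne_zero, by rw [h0]; simp⟩
      · exact ⟨(hermForm 6 F 2 f g)⁻¹, inv_ne_zero h0, by
          rw [inv_mul_cancel₀ h0, one_pow, U2.add_self hF]⟩
    refine ⟨c • f + g, ?_, ?_, ?_⟩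
    · have hgf : hermForm 6 F 2 g f = hermForm 6 F 2 f g ^ 2 := h_symm hF f g
      simp only [h_add_left, h_add_right hF, h_smul_left, h_smul_right hF, hff, hgg, hgf]
      linear_combination hc
    · rw [h_add_left, h_smul_left, h2, add_zero]; exact mul_ne_zero hc0 hvf
    · rw [h_add_left, h_smul_left, h1, mul_zero, zero_add]; exact hug
  obtain ⟨z, hz⟩ := U.surj (fun h0 => hwv (by rw [h0, h_zero_left])) hw
  obtain ⟨g₁, hg₁, e₁⟩ := hbase hx (U.mem hz) (fun h => hwv ((h_eq_zero_comm hF).1 ((U.comm hv hz).1 h)))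
  obtain ⟨g₂, hg₂, e₂⟩ := hbase (U.mem hz) hy (fun h => hwu ((U.comm hz hu).1 h))
  refine ⟨g₂ * g₁, hg₂.mul_left hg₁, ?_⟩
  rw [← e₂, ← e₁]; group

variable {d₁ d₂ : G} (T : Duo D F d₁ d₂)
include T

theorem Duo.exists_swap : ∃ g : G, g * d₁ * g⁻¹ = d₂ ∧ g * d₂ * g⁻¹ = d₁ := by
  obtain ⟨g, hg⟩ := H99.class_isConj T.set'.cls T.mem₁ T.mem₂.1
  have hy : g * d₂ * g⁻¹ ∈ H99.perp D d₂ := by
    have := H99.perp_conj (fun g _ hx => T.conjD g hx) g T.mem₂
    rwa [hg] at this
  obtain ⟨h, hh, e⟩ := T.set'.perp_trans T.mem₂.1 hy (H65.Fischer.perp_mem_symm T.mem₁ T.mem₂)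
  refine ⟨h * g, ?_, ?_⟩
  · rw [show h * g * d₁ * (h * g)⁻¹ = h * (g * d₁ * g⁻¹) * h⁻¹ by group, hg, hh.eq,
      mul_inv_cancel_right]
  · rw [show h * g * d₂ * (h * g)⁻¹ = h * (g * d₂ * g⁻¹) * h⁻¹ by group, e]

/-- The centraliser of both transpositions. -/
def Duo.both (_ : Duo D F d₁ d₂) : Subgroup G := Subgroup.centralizer ({d₁, d₂} : Set G)

theorem Duo.mem_both {g : G} : g ∈ T.both ↔ Commute g d₁ ∧ Commute g d₂ := by
  simp only [Duo.both, Subgroup.mem_centralizer_iff, Set.mem_insert_iff, Set.mem_singleton_iff,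
    forall_eq_or_imp, forall_eq]
  exact ⟨fun h => ⟨h.1.symm, h.2.symm⟩, fun h => ⟨h.1.eq.symm, h.2.eq.symm⟩⟩

theorem Duo.both_le : T.both ≤ T.cen := fun _ hg =>
  T.cen_of_fix (T.mem_both.1 hg).1 (T.mem_both.1 hg).2

theorem Duo.card_both [Finite G] : Nat.card T.both = 26542080 := by
  have h := card_conj_orbit (Subgroup.centralizer ({d₁} : Set G)) d₂ (H99.perp D d₁)
    (fun h hh => by
      have := H99.perp_conj (fun g _ hx => T.conjD g hx) h T.mem₂
      rwa [(Subgroup.mem_centralizer_singleton_iff.1 hh), mul_inv_cancel_right] at this)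
    (fun y hy => by
      obtain ⟨g, hg, e⟩ := T.set'.perp_trans T.mem₁ T.mem₂ hy
      exact ⟨g, Subgroup.mem_centralizer_singleton_iff.2 hg.eq, e⟩)
  have e : Subgroup.centralizer ({d₁} : Set G) ⊓ Subgroup.centralizer ({d₂} : Set G) = T.both := by
    ext g
    rw [Subgroup.mem_inf, T.mem_both, Subgroup.mem_centralizer_singleton_iff,
      Subgroup.mem_centralizer_singleton_iff]
    rfl
  rw [e, T.set'.deg d₁ T.mem₁, T.set'.card d₁ T.mem₁] at h
  omega

theorem Duo.card_cen [Finite G] : Nat.card T.cen = 2 * Nat.card T.both := by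
  obtain ⟨s, hs1, hs2⟩ := T.exists_swap
  have hs : s ∈ T.cen := Subgroup.mem_centralizer_singleton_iff.2 (mul_inv_eq_iff_eq_mul.1 (by
    rw [show s * (d₁ * d₂) * s⁻¹ = s * d₁ * s⁻¹ * (s * d₂ * s⁻¹) by group, hs1, hs2,
      T.comm₁₂.symm.eq]))
  rw [card_conj_orbit T.cen d₁ {d₁, d₂} (fun g hg => ?_) (fun y hy => ?_),
    Set.ncard_pair T.ne.symm]
  · congr 1
    refine congrArg (fun H : Subgroup G => Nat.card H) ?_
    ext g
    rw [Subgroup.mem_inf, T.mem_both, Subgroup.mem_centralizer_singleton_iff]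
    constructor
    · rintro ⟨hg, h1⟩
      refine ⟨h1, ?_⟩
      rcases T.cen_cases hg with h | h
      · exact mul_inv_eq_iff_eq_mul.1 h.2
      · exact absurd (h.1.symm.trans (by rw [h1, mul_inv_cancel_right])) T.ne
    · exact fun h => ⟨T.cen_of_fix h.1 h.2, h.1.eq⟩
  · rcases T.cen_cases hg with h | h <;> simp [h.1]
  · rcases hy with rfl | rfl
    · exact ⟨1, one_mem _, by group⟩
    · exact ⟨s, hs, hs1⟩

theorem Duo.exists_to (i r : Fin 45) : ∃ g : T.cen, T.img g i = r := by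
  have one : ∀ i r : Fin 45, i ≠ r → adj i r = false → ∃ g : T.cen, T.img g i = r := by
    intro i r hne hadj
    obtain ⟨j, s, hs, h⟩ := connect_codes i r hne hadj
    have hs' : (emb s : F) ≠ 0 := mt (emb_eq_zero T.hF).1 hs
    exact ⟨⟨T.X j 0, T.cen_of_fix (T.commute_X_one j 0) (T.commute_X_two j 0)⟩,
      T.img_eq _ (T.conj_step hs' (step_of_code T.hF h) 0 0)⟩
  obtain ⟨t, ⟨h1, h2⟩, ⟨h3, h4⟩⟩ := connect_adj i r
  obtain ⟨g, hg⟩ := one i t h1.symm h2
  obtain ⟨g', hg'⟩ := one t r h3.symm h4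
  exact ⟨g' * g, by rw [T.img_mul, hg, hg']⟩

theorem Duo.ker_subgroupOf : T.ker.subgroupOf T.cen = T.act.ker := by
  ext g
  rw [Subgroup.mem_subgroupOf]
  exact ⟨fun ⟨g', hg', e⟩ => Subtype.ext e ▸ hg', fun hg => ⟨g, hg, rfl⟩⟩

theorem Duo.normal_two_le [Finite G] (M : Subgroup T.cen) (hn : M.Normal) (hM : IsPGroup 2 M) :
    M ≤ T.act.ker := by
  have : Fact (Nat.Prime 2) := ⟨Nat.prime_two⟩
  let inst : MulAction M (Fin 45) :=
    MulAction.compHom (Fin 45) ((autAdj.subtype).comp (T.act.comp M.subtype))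
  have hsmul : ∀ (m : M) (i : Fin 45), m • i = T.img m.1 i := fun m i => rfl
  have h := hM.card_modEq_card_fixedPoints (Fin 45)
  have hne : (MulAction.fixedPoints M (Fin 45)).Nonempty := by
    by_contra h0
    rw [Set.not_nonempty_iff_eq_empty] at h0
    rw [h0, Nat.card_coe_set_eq, Set.ncard_empty, Nat.card_eq_fintype_card, Fintype.card_fin] at h
    exact absurd h (by decide)
  obtain ⟨i₀, hi₀⟩ := hne
  intro m hm
  refine MonoidHom.mem_ker.2 (Subtype.ext (Equiv.ext fun r => ?_))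
  show T.img m r = r
  obtain ⟨g, hg⟩ := T.exists_to i₀ r
  have hfix : T.img (g⁻¹ * m * g) i₀ = i₀ := by
    have hm' : g⁻¹ * m * g ∈ M := by simpa using hn.conj_mem m hm g⁻¹
    exact (hsmul ⟨_, hm'⟩ i₀).symm.trans (hi₀ ⟨_, hm'⟩)
  rw [← hg]
  nth_rw 2 [← hfix]
  rw [← T.img_mul, ← T.img_mul, show g * (g⁻¹ * m * g) = m * g by group]

theorem Duo.quot_iso [Finite G] :
    Nonempty (↥T.cen ⧸ T.act.ker ≃* Cfsg.isometryGroup (ZMod 2) qf) := by
  let ψ := toO.comp T.act
  have hker : ψ.ker = T.act.ker := by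
    ext g
    rw [MonoidHom.mem_ker, MonoidHom.mem_ker, MonoidHom.comp_apply, ← map_one toO,
      toO_injective.eq_iff]
  have hO : Nat.card (Cfsg.isometryGroup (ZMod 2) qf) = 51840 := by
    have h := Cfsg.Agent.S0288.result (F := ZMod 2) (q := 2) (by simp) 3 (by norm_num) 1 1
      (by decide)
    simpa [Finset.prod_range_succ] using h
  have hk : Nat.card T.act.ker = 1024 := by
    rw [← T.card_ker]
    exact Nat.card_congr
      (T.act.ker.equivMapOfInjective T.cen.subtype T.cen.subtype_injective).toEquiv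
  have hrange : ψ.range = ⊤ := by
    refine Subgroup.eq_top_of_card_eq _ ?_
    have h := Subgroup.card_eq_card_quotient_mul_card_subgroup ψ.ker
    rw [Nat.card_congr (QuotientGroup.quotientKerEquivRange ψ).toEquiv, hker, hk, T.card_cen,
      T.card_both] at h
    rw [hO]
    omega
  exact ⟨(QuotientGroup.quotientMulEquivOfEq hker.symm).trans
    (QuotientGroup.quotientKerEquivOfSurjective ψ (MonoidHom.range_eq_top.1 hrange))⟩

theorem Duo.fStar [Finite G] : generalizedFittingSubgroup ↥T.cen = T.act.ker := by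
  have : Fact (Nat.Prime 2) := ⟨Nat.prime_two⟩
  refine fStar_eq inferInstance ?_ ?_ T.normal_two_le
  · refine IsPGroup.of_card (n := 10) ?_
    rw [Nat.card_congr (T.act.ker.equivMapOfInjective T.cen.subtype T.cen.subtype_injective).toEquiv]
    exact T.card_ker.trans (by norm_num)
  · intro g hg
    have h : (g : G) ∈ Subgroup.closure ({d₁, d₂} : Set G) := T.centralizer_ker g.2 fun h hh => by
      obtain ⟨h', hh', rfl⟩ := hh
      exact (congrArg Subtype.val (Subgroup.mem_centralizer_iff.1 hg h' hh')).symm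
    have := T.span_le_ker h
    rw [← T.ker_subgroupOf]
    exact this

end H5.Gq
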